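import Groth.Agent.Books.AlgPtsIrred
import Groth.Agent.Books.AlgPtsGrp

/-!
# Actions and rational points: elementary lemmas
-/

set_option autoImplicit false
universe u
open CategoryTheory MonoidalCategory CartesianMonoidalCategory MonObj GrpObj AlgebraicGeometry Limits

namespace K499.ActPts

open Groth.Agent.Books.AlgPts Groth.Agent.Books.AlgPtsGrp Groth.Agent.Books.AlgPtsIrred

section general

variable {S : Scheme.{u}} {G X : Over S} [GrpObj G] (a : AlgGrp.Action G X)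

/-- Compatibility of the action with multiplication on points. -/
theorem mul_lift {T : Over S} (g h : T ⟶ G) (x : T ⟶ X) :
    lift (g * h) x ≫ a.act = lift g (lift h x ≫ a.act) ≫ a.act := by
  have h1 := congr(lift (lift g h) x ≫ $(a.mul_act))
  rw [Hom.mul_def]
  simpa using h1

theorem one_lift {T : Over S} (x : T ⟶ X) : lift 1 x ≫ a.act = x := by
  have h1 := congr(lift (toUnit T) x ≫ $(a.one_act))
  simpa [Hom.one_def] using h1

theorem inv_lift {T : Over S} (g : T ⟶ G) (x : T ⟶ X) :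
    lift g⁻¹ (lift g x ≫ a.act) ≫ a.act = x := by
  rw [← mul_lift, inv_mul_cancel, one_lift]

theorem lift_inv {T : Over S} (g : T ⟶ G) (x : T ⟶ X) :
    lift g (lift g⁻¹ x ≫ a.act) ≫ a.act = x := by
  rw [← mul_lift, mul_inv_cancel, one_lift]

/-- Translation by a section. -/
noncomputable abbrev tr (σ : 𝟙_ (Over S) ⟶ G) : X ⟶ X := lift (toUnit X ≫ σ) (𝟙 X) ≫ a.act

theorem comp_tr {T : Over S} (x : T ⟶ X) (σ : 𝟙_ (Over S) ⟶ G) :
    x ≫ tr a σ = lift (toUnit T ≫ σ) x ≫ a.act := by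
  have : x ≫ toUnit X = toUnit T := toUnit_unique _ _
  simp only [tr, comp_lift_assoc, reassoc_of% this, Category.comp_id]

theorem pt_tr (x : 𝟙_ (Over S) ⟶ X) (σ : 𝟙_ (Over S) ⟶ G) :
    x ≫ tr a σ = lift σ x ≫ a.act := by
  have : toUnit (𝟙_ (Over S)) = 𝟙 _ := toUnit_unique _ _
  rw [comp_tr, this, Category.id_comp]

theorem comp_orbitMap {T : Over S} (g : T ⟶ G) (o : 𝟙_ (Over S) ⟶ X) :
    g ≫ a.orbitMap o = lift g (toUnit T ≫ o) ≫ a.act := by
  have : g ≫ toUnit G = toUnit T := toUnit_unique _ _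
  simp only [AlgGrp.Action.orbitMap, comp_lift_assoc, reassoc_of% this, Category.comp_id]

theorem pt_orbitMap (g : 𝟙_ (Over S) ⟶ G) (o : 𝟙_ (Over S) ⟶ X) :
    g ≫ a.orbitMap o = lift g o ≫ a.act := by
  have : toUnit (𝟙_ (Over S)) = 𝟙 _ := toUnit_unique _ _
  rw [comp_orbitMap, this, Category.id_comp]

theorem tr_mul (σ τ : 𝟙_ (Over S) ⟶ G) : tr a (σ * τ) = tr a τ ≫ tr a σ := by
  rw [comp_tr, tr, tr, MonObj.comp_mul, mul_lift]

theorem tr_one : tr a (1 : 𝟙_ (Over S) ⟶ G) = 𝟙 X := by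
  rw [tr, MonObj.comp_one, one_lift]

theorem tr_inv_tr (σ : 𝟙_ (Over S) ⟶ G) : tr a σ⁻¹ ≫ tr a σ = 𝟙 X := by
  rw [← tr_mul, mul_inv_cancel, tr_one]

theorem tr_tr_inv (σ : 𝟙_ (Over S) ⟶ G) : tr a σ ≫ tr a σ⁻¹ = 𝟙 X := by
  rw [← tr_mul, inv_mul_cancel, tr_one]

/-- Translation as an isomorphism. -/
noncomputable def trIso (σ : 𝟙_ (Over S) ⟶ G) : X ≅ X where
  hom := tr a σ
  inv := tr a σ⁻¹
  hom_inv_id := tr_tr_inv a σ
  inv_hom_id := tr_inv_tr a σ

/-- The orbit map is equivariant. -/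
theorem orbitMap_tr (σ : 𝟙_ (Over S) ⟶ G) (o : 𝟙_ (Over S) ⟶ X) :
    a.orbitMap o ≫ tr a σ = ((toUnit G ≫ σ) * 𝟙 G) ≫ a.orbitMap o := by
  rw [comp_tr, comp_orbitMap, mul_lift, AlgGrp.Action.orbitMap]

end general

end K499.ActPts
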