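import Groth.Agent.AGF.K499.FlatGen
import Groth.Agent.Sga2lef.H134.DimCl
import Groth.Agent.CycA.ProdDim
import Groth.Agent.S1582
import Groth.Agent.S0414
import Groth.Agent.Ega1.ReducedSub
import Mathlib.AlgebraicGeometry.Morphisms.UniversallyOpen

/-!
# Maximal points of closed subsets, dimensions of preimages, generic fibres and products
-/

set_option autoImplicit false
universe u

namespace K499.DimGen

open AlgebraicGeometry CategoryTheory CategoryTheory.Limits TopologicalSpace Topology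
open Groth.Agent.CycB.RelDim Groth.Agent.CycA.ProdDim
open K499.FlatGen

section top

variable {T : Type*} [TopologicalSpace T]

theorem exists_gen_of_mem [QuasiSober T] [T0Space T] {Z : Set T} (hZ : IsClosed Z) {C : Set Z}
    (hC : C ∈ irreducibleComponents Z) :
    ∃ c, Gen Z c ∧ Subtype.val '' C = closure {c} ∧
      topologicalKrullDim C = topologicalKrullDim (closure {c} : Set T) := by
  have h1 : IsIrreducible (Subtype.val '' C : Set T) :=
    hC.1.image _ continuous_subtype_val.continuousOn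
  have h2 : IsClosed (Subtype.val '' C : Set T) :=
    hZ.isClosedEmbedding_subtypeVal.isClosedMap _ (isClosed_of_mem_irreducibleComponents C hC)
  obtain ⟨c, hc⟩ := QuasiSober.sober h1 h2
  refine ⟨c, ⟨?_, ?_⟩, hc.def.symm, ?_⟩
  · obtain ⟨z, _, hz⟩ : c ∈ Subtype.val '' C := hc.mem
    rw [← hz]
    exact z.2
  · intro z hz hzc
    have h3 : C ⊆ closure {(⟨z, hz⟩ : Z)} := by
      intro x hx
      have h4 : c ⤳ x.1 := hc.specializes ⟨x, hx, rfl⟩
      exact specializes_iff_mem_closure.1 (IsInducing.subtypeVal.specializes_iff.1 (hzc.trans h4))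
    have h4 := hC.2 isIrreducible_singleton.closure h3
    have h5 : (⟨z, hz⟩ : Z) ∈ C := h4 (subset_closure rfl)
    have h6 : c ⤳ z := hc.specializes ⟨_, h5, rfl⟩
    exact (hzc.antisymm h6).eq
  · rw [hc.def]
    exact IsHomeomorph.topologicalKrullDim_eq _
      (IsEmbedding.subtypeVal.homeomorphImage C).isHomeomorph

theorem val_preimage_mem {Z : Set T} {c : T} (hc : Gen Z c) [QuasiSober Z] :
    (Subtype.val ⁻¹' closure {c} : Set Z) ∈ irreducibleComponents Z := by
  have h1 : (Subtype.val ⁻¹' closure {c} : Set Z) = closure {(⟨c, hc.1⟩ : Z)} := by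
    ext x
    rw [Set.mem_preimage, ← specializes_iff_mem_closure, ← specializes_iff_mem_closure,
      ← IsInducing.subtypeVal.specializes_iff]
  rw [h1]
  refine ⟨isIrreducible_singleton.closure, fun A hA hle => ?_⟩
  obtain ⟨v, hv⟩ := QuasiSober.sober hA.closure isClosed_closure
  have hvz := hv.specializes (subset_closure (hle (subset_closure rfl)))
  have hvc : v.1 = c := hc.2 v.1 v.2 (IsInducing.subtypeVal.specializes_iff.2 hvz)
  have hvc' : v = ⟨c, hc.1⟩ := Subtype.ext hvc
  rw [← hvc', hv.def]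
  exact subset_closure

theorem exists_mem_of_gen [QuasiSober T] {Z : Set T} (hZ : IsClosed Z) {c : T} (hc : Gen Z c) :
    ∃ C ∈ irreducibleComponents Z,
      topologicalKrullDim C = topologicalKrullDim (closure {c} : Set T) := by
  have hq : QuasiSober Z := hZ.isClosedEmbedding_subtypeVal.quasiSober
  refine ⟨_, val_preimage_mem hc, ?_⟩
  have h2 : Subtype.val '' (Subtype.val ⁻¹' closure {c} : Set Z) = closure {c} := by
    rw [Set.image_preimage_eq_inter_range, Subtype.range_val]
    exact Set.inter_eq_left.2 (closure_minimal (Set.singleton_subset_iff.2 hc.1) hZ)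
  conv_rhs => rw [← h2]
  exact IsHomeomorph.topologicalKrullDim_eq _
    (IsEmbedding.subtypeVal.homeomorphImage (Subtype.val ⁻¹' closure {c} : Set Z)).isHomeomorph

theorem exists_gen [QuasiSober T] [T0Space T] {Z : Set T} (hZ : IsClosed Z) {z : T} (hz : z ∈ Z) :
    ∃ c, Gen Z c ∧ c ⤳ z := by
  obtain ⟨c, h1, h2, -⟩ := exists_gen_of_mem hZ
    (irreducibleComponent_mem_irreducibleComponents (⟨z, hz⟩ : Z))
  refine ⟨c, h1, specializes_iff_mem_closure.2 ?_⟩
  rw [← h2]
  exact ⟨_, mem_irreducibleComponent, rfl⟩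

theorem finite_gen [QuasiSober T] [T0Space T] [NoetherianSpace T] {Z : Set T} (hZ : IsClosed Z) :
    {c | Gen Z c}.Finite := by
  have hq : QuasiSober Z := hZ.isClosedEmbedding_subtypeVal.quasiSober
  have hN : NoetherianSpace Z := IsInducing.subtypeVal.noetherianSpace
  refine Set.Finite.of_injOn (f := fun c => (Subtype.val ⁻¹' closure {c} : Set Z))
    (t := irreducibleComponents Z) (fun c hc => val_preimage_mem hc) ?_
    NoetherianSpace.finite_irreducibleComponents
  intro c hc c' hc' h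
  have hc0 : Gen Z c := hc
  have hc0' : Gen Z c' := hc'
  have h0 : (Subtype.val ⁻¹' closure {c} : Set Z) = (Subtype.val ⁻¹' closure {c'} : Set Z) := h
  have h1 : (⟨c, hc0.1⟩ : Z) ∈ (Subtype.val ⁻¹' closure {c'} : Set Z) := by
    rw [← h0]
    exact subset_closure rfl
  exact (hc0.2 c' hc0'.1 (specializes_iff_mem_closure.2 h1)).symm

theorem gen_inter_of_isOpen {Z U : Set T} {c : T} (hc : Gen Z c) (hcU : c ∈ U) :
    Gen (Z ∩ U) c := ⟨⟨hc.1, hcU⟩, fun z hz hzc => hc.2 z hz.1 hzc⟩

theorem gen_of_inter_isOpen {Z U : Set T} (hU : IsOpen U) {c : T} (hc : Gen (Z ∩ U) c) :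
    Gen Z c := ⟨hc.1.1, fun z hz hzc => hc.2 z ⟨hz, hzc.mem_open hU hc.1.2⟩ hzc⟩

theorem Gen.image {T' : Type*} [TopologicalSpace T'] (e : T ≃ₜ T') {Z : Set T} {c : T}
    (hc : Gen Z c) : Gen (e '' Z) (e c) := by
  refine ⟨⟨c, hc.1, rfl⟩, ?_⟩
  rintro _ ⟨z, hz, rfl⟩ h
  rw [e.isInducing.specializes_iff] at h
  rw [hc.2 z hz h]

end top

section flat

variable {W Z : Scheme.{u}}

/-- Maximal points of preimages under flat morphisms lie over maximal points. -/
theorem gen_map (f : W ⟶ Z) [Flat f] {Y : Set Z} {c : W} (hc : Gen (f ⁻¹' Y) c) : Gen Y (f c) := by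
  refine ⟨hc.1, fun y hy hyc => ?_⟩
  obtain ⟨c', h1, h2⟩ := Flat.generalizingMap f hyc
  have h3 : c' = c := hc.2 c' (by rw [Set.mem_preimage, h2]; exact hy) h1
  rw [← h2, h3]

theorem rtd_of_gen_preimage (f : W ⟶ Z) [Flat f] [LocallyOfFiniteType f] {Y : Set Z} {c : W}
    (hc : Gen (f ⁻¹' Y) c) (w : W) (hw : ∀ x : W, w ⤳ x) : rtd f c = rtd f w :=
  rtd_eq f w hw c (Flat.stalkMap f c) (fun x hxc hx =>
    hc.2 x (by rw [Set.mem_preimage, hx]; exact hc.1) hxc)

end flat

section generic

variable {W Z : Scheme.{u}}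

/-- The fibres of the closure of a point over a dense open subset. -/
theorem exists_open_fibres (f : W ⟶ Z) [LocallyOfFiniteType f] [QuasiCompact f] [IsIntegral Z]
    (t : W) : ∃ V : Z.Opens, (V : Set Z).Nonempty ∧ ∀ c : W, t ⤳ c → f c ∈ V →
      (∀ x : W, t ⤳ x → x ⤳ c → f x = f c → x = c) →
        f t = genericPoint Z ∧ rtd f c = rtd f t := by
  by_cases ht : f t = genericPoint Z
  · obtain ⟨W', j, hji, hjr, hj⟩ : ∃ (W' : Scheme.{u}) (j : W' ⟶ W), IsClosedImmersion j ∧
        IsReduced W' ∧ Set.range j = closure {t} :=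
      ⟨(Scheme.IdealSheafData.vanishingIdeal ⟨closure {t}, isClosed_closure⟩).subscheme,
        (Scheme.IdealSheafData.vanishingIdeal ⟨closure {t}, isClosed_closure⟩).subschemeι,
        inferInstance, Groth.Agent.Ega1.ReducedSub.isReduced_subscheme_vanishingIdeal _, by
          rw [Scheme.IdealSheafData.range_subschemeι]
          exact Scheme.IdealSheafData.coe_support_vanishingIdeal _⟩
    obtain ⟨t', ht'⟩ : t ∈ Set.range j := by rw [hj]; exact subset_closure rfl
    have htt : ∀ x : W', t' ⤳ x := by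
      intro x
      rw [← j.isClosedEmbedding.isInducing.specializes_iff, ht', specializes_iff_mem_closure, ← hj]
      exact ⟨x, rfl⟩
    obtain ⟨U, hU, hfl, -⟩ := Groth.Agent.S0414.result (j ≫ f)
    refine ⟨U, ?_, fun c htc hcU hc => ⟨ht, ?_⟩⟩
    · have : Nonempty Z := ⟨f t⟩
      exact hU.nonempty
    obtain ⟨c', rfl⟩ : c ∈ Set.range j := by rw [hj]; exact specializes_iff_mem_closure.1 htc
    have hc'U : c' ∈ (j ≫ f) ⁻¹ᵁ U := hcU
    let V := (j ≫ f) ⁻¹ᵁ U
    have ht'U : t' ∈ V := (htt c').mem_open V.2 hc'U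
    have hfl' : Flat (V.ι ≫ j ≫ f) := by
      rw [← morphismRestrict_ι]
      infer_instance
    have key := rtd_eq (V.ι ≫ j ≫ f) ⟨t', ht'U⟩ (fun x => by
        rw [← V.ι.isOpenEmbedding.isInducing.specializes_iff]
        exact htt _) ⟨c', hc'U⟩ (Flat.stalkMap _ _) (fun x hxc hx => by
        apply V.ι.isOpenEmbedding.injective
        apply j.isClosedEmbedding.injective
        refine hc _ (by rw [← ht']; exact (htt _).map j.continuous) ?_ ?_
        · exact (hxc.map V.ι.continuous).map j.continuous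
        · exact hx)
    rw [← Category.assoc, rtd_comp, rtd_comp (V.ι ≫ j) f, rtd_eq_zero_of_isPreimmersion (V.ι ≫ j),
      rtd_eq_zero_of_isPreimmersion (V.ι ≫ j), add_zero, add_zero] at key
    rw [← ht']
    exact key
  · refine ⟨⟨(closure {f t})ᶜ, isClosed_closure.isOpen_compl⟩, ⟨genericPoint Z, ?_⟩,
      fun c htc hcU _ => ?_⟩
    · change genericPoint Z ∉ closure {f t}
      rw [← specializes_iff_mem_closure]
      intro h
      exact ht (h.antisymm (genericPoint_specializes _)).eq
    · exact absurd (specializes_iff_mem_closure.1 (htc.map f.continuous)) hcU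

/-- Maximal points of the fibres of a closed subset over a dense open subset of the target. -/
theorem exists_open_gen_fibres (f : W ⟶ Z) [LocallyOfFiniteType f] [QuasiCompact f] [IsIntegral Z]
    [NoetherianSpace W] {T : Set W} (hT : IsClosed T) :
    ∃ V : Z.Opens, (V : Set Z).Nonempty ∧ ∀ v ∈ V, ∀ c : W, Gen (T ∩ f ⁻¹' {v}) c →
      ∃ t, Gen T t ∧ f t = genericPoint Z ∧ rtd f c = rtd f t := by
  choose V hV1 hV2 using fun t : W => exists_open_fibres f t
  have hfin := finite_gen hT
  have hfin' : Finite {c | Gen T c} := hfin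
  refine ⟨⟨⋂ t : {c | Gen T c}, (V t.1 : Set Z), isOpen_iInter_of_finite fun t => (V t.1).2⟩,
    ⟨genericPoint Z, ?_⟩, fun v hv c hc => ?_⟩
  · simp only [Set.coe_ofPred, TopologicalSpace.Opens.coe_mk, Set.mem_iInter]
    intro t
    exact ((genericPoint_spec Z).mem_open_set_iff (V t.1).2).2 (by simpa using hV1 t.1)
  · obtain ⟨t, ht, htc⟩ := exists_gen hT hc.1.1
    have hv' : v ∈ ⋂ t : {c | Gen T c}, (V t.1 : Set Z) := hv
    have hcv : f c = v := hc.1.2
    obtain ⟨h1, h2⟩ := hV2 t c htc (by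
      rw [hcv]
      exact Set.mem_iInter.1 hv' ⟨t, ht⟩) (fun x htx hxc hx => by
        refine hc.2 x ⟨?_, ?_⟩ hxc
        · exact hT.closure_subset_iff.2 (Set.singleton_subset_iff.2 ht.1)
            (specializes_iff_mem_closure.1 htx)
        · exact hx.trans hcv)
    exact ⟨t, ht, h1, h2⟩

end generic

section prod

variable {k : Type u} [Field k] [IsAlgClosed k] {X Y : Scheme.{u}}

/-- Maximal points of products of closed subsets. -/
theorem gen_prod (f : X ⟶ Spec (CommRingCat.of k)) (g : Y ⟶ Spec (CommRingCat.of k))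
    [LocallyOfFiniteType f] [LocallyOfFiniteType g] [IsSeparated f] [IsSeparated g]
    [QuasiCompact f] [QuasiCompact g] {A : Set X} {B : Set Y} (hA : IsClosed A) (hB : IsClosed B)
    (c : ↥(pullback f g))
    (hc : Gen (pullback.fst f g ⁻¹' A ∩ pullback.snd f g ⁻¹' B) c) :
    Gen A (pullback.fst f g c) ∧ Gen B (pullback.snd f g c) ∧
      rtd (pullback.fst f g ≫ f) c = rtd f (pullback.fst f g c) + rtd g (pullback.snd f g c) := by
  have hcl : ∀ {X : Scheme.{u}} (t : X), ∃ (W' : Scheme.{u}) (j : W' ⟶ X), IsClosedImmersion j ∧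
        (∃ _ : IsIntegral W', j (genericPoint W') = t) ∧ Set.range j = closure {t} := by
    intro X t
    obtain ⟨W', j, hji, hjr, hj⟩ : ∃ (W' : Scheme.{u}) (j : W' ⟶ X), IsClosedImmersion j ∧
        IsReduced W' ∧ Set.range j = closure {t} :=
      ⟨(Scheme.IdealSheafData.vanishingIdeal ⟨closure {t}, isClosed_closure⟩).subscheme,
        (Scheme.IdealSheafData.vanishingIdeal ⟨closure {t}, isClosed_closure⟩).subschemeι,
        inferInstance, Groth.Agent.Ega1.ReducedSub.isReduced_subscheme_vanishingIdeal _, by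
          rw [Scheme.IdealSheafData.range_subschemeι]
          exact Scheme.IdealSheafData.coe_support_vanishingIdeal _⟩
    obtain ⟨t', ht'⟩ : t ∈ Set.range j := by rw [hj]; exact subset_closure rfl
    have htt : ∀ x : W', t' ⤳ x := by
      intro x
      rw [← j.isClosedEmbedding.isInducing.specializes_iff, ht', specializes_iff_mem_closure, ← hj]
      exact ⟨x, rfl⟩
    have hirr : IrreducibleSpace W' := by
      rw [irreducibleSpace_def, Set.top_eq_univ]
      have : (Set.univ : Set W') = closure {t'} := by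
        ext x
        simp only [Set.mem_univ, true_iff]
        exact specializes_iff_mem_closure.1 (htt x)
      rw [this]
      exact isIrreducible_singleton.closure
    have hint : IsIntegral W' := isIntegral_of_irreducibleSpace_of_isReduced _
    refine ⟨W', j, hji, ⟨hint, ?_⟩, hj⟩
    rw [← ht', ((genericPoint_specializes t').antisymm (htt _)).eq]
  obtain ⟨α, hα, hαc⟩ := exists_gen hA hc.1.1
  obtain ⟨β, hβ, hβc⟩ := exists_gen hB hc.1.2
  obtain ⟨A', i, hi, ⟨hAi, hiα⟩, hir⟩ := hcl α
  obtain ⟨B', j, hj, ⟨hBi, hjβ⟩, hjr⟩ := hcl β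
  have hint : IsIntegral (pullback (i ≫ f) (j ≫ g)) := Groth.Agent.S1582.result k A' B' _ _
  let π : pullback (i ≫ f) (j ≫ g) ⟶ pullback f g :=
    pullback.map (i ≫ f) (j ≫ g) f g i j (𝟙 _) (by simp) (by simp)
  have hπ1 : π ≫ pullback.fst f g = pullback.fst _ _ ≫ i := pullback.lift_fst _ _ _
  have hπ2 : π ≫ pullback.snd f g = pullback.snd _ _ ≫ j := pullback.lift_snd _ _ _
  have hπ : IsClosedImmersion π := MorphismProperty.pullbackMap hi hj rfl rfl
  have hgen1 : pullback.fst (i ≫ f) (j ≫ g) (genericPoint ↥(pullback (i ≫ f) (j ≫ g))) =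
      genericPoint A' := by
    have hs : Surjective (j ≫ g) := by
      have : Nonempty B' := ⟨genericPoint B'⟩
      exact ⟨fun x => ⟨genericPoint B', Subsingleton.elim _ _⟩⟩
    have h1 := (genericPoint_spec ↥(pullback (i ≫ f) (j ≫ g))).image
      (pullback.fst (i ≫ f) (j ≫ g)).continuous
    have h2 : Function.Surjective (pullback.fst (i ≫ f) (j ≫ g)) :=
      (pullback.fst (i ≫ f) (j ≫ g)).surjective
    rw [Set.image_univ, h2.range_eq, closure_univ] at h1
    exact h1.eq (genericPoint_spec A')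
  have hgen2 : pullback.snd (i ≫ f) (j ≫ g) (genericPoint ↥(pullback (i ≫ f) (j ≫ g))) =
      genericPoint B' := by
    have hs : Surjective (i ≫ f) := by
      have : Nonempty A' := ⟨genericPoint A'⟩
      exact ⟨fun x => ⟨genericPoint A', Subsingleton.elim _ _⟩⟩
    have h1 := (genericPoint_spec ↥(pullback (i ≫ f) (j ≫ g))).image
      (pullback.snd (i ≫ f) (j ≫ g)).continuous
    have h2 : Function.Surjective (pullback.snd (i ≫ f) (j ≫ g)) :=
      (pullback.snd (i ≫ f) (j ≫ g)).surjective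
    rw [Set.image_univ, h2.range_eq, closure_univ] at h1
    exact h1.eq (genericPoint_spec B')
  set γ : ↥(pullback f g) := π (genericPoint ↥(pullback (i ≫ f) (j ≫ g))) with hγ
  have hγ1 : pullback.fst f g γ = α := by
    rw [hγ, ← Scheme.Hom.comp_apply, hπ1, Scheme.Hom.comp_apply, hgen1, hiα]
  have hγ2 : pullback.snd f g γ = β := by
    rw [hγ, ← Scheme.Hom.comp_apply, hπ2, Scheme.Hom.comp_apply, hgen2, hjβ]
  have hcr : c ∈ Set.range π := by
    have : Set.range π = pullback.fst f g ⁻¹' Set.range i ∩ pullback.snd f g ⁻¹' Set.range j :=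
      Scheme.Pullback.range_map _ _ _ _ _ _ _ _ _
    rw [this, hir, hjr]
    exact ⟨specializes_iff_mem_closure.1 hαc, specializes_iff_mem_closure.1 hβc⟩
  obtain ⟨p, hp⟩ := hcr
  have hγc : γ ⤳ c := by
    rw [← hp]
    exact (genericPoint_specializes p).map π.continuous
  have hEq : γ = c := hc.2 γ ⟨by rw [Set.mem_preimage, hγ1]; exact hα.1,
    by rw [Set.mem_preimage, hγ2]; exact hβ.1⟩ hγc
  rw [← hEq, hγ1, hγ2]
  refine ⟨hα, hβ, ?_⟩
  obtain ⟨n, m, h1, h2, h3⟩ := exists_dim_pullback (i ≫ f) (j ≫ g)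
  obtain ⟨n', h4, h4'⟩ := exists_dim (i ≫ f)
  obtain ⟨m', h5, h5'⟩ := exists_dim (j ≫ g)
  obtain ⟨l, h6, h6'⟩ := exists_dim (pullback.fst (i ≫ f) (j ≫ g) ≫ i ≫ f)
  have e1 : n' = n := by rw [h1] at h4'; exact_mod_cast h4'.symm
  have e2 : m' = m := by rw [h2] at h5'; exact_mod_cast h5'.symm
  have e3 : l = n + m := by rw [h3] at h6'; exact_mod_cast h6'.symm
  rw [rtd_comp, rtd_eq_zero_of_isPreimmersion i, add_zero, hiα] at h4
  rw [rtd_comp, rtd_eq_zero_of_isPreimmersion j, add_zero, hjβ] at h5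
  have h7 : pullback.fst (i ≫ f) (j ≫ g) ≫ i ≫ f = π ≫ pullback.fst f g ≫ f := by
    rw [← Category.assoc π, hπ1, Category.assoc]
  rw [h7, rtd_comp, rtd_eq_zero_of_isPreimmersion π, add_zero, ← hγ] at h6
  rw [h6, h4, h5, e1, e2, e3]
  push_cast
  rfl

end prod

end K499.DimGen
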