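import Mathlib.Topology.NoetherianSpace
import Mathlib.Topology.Irreducible
import Mathlib.Topology.Sets.Closeds
import Mathlib.GroupTheory.Index
import Mathlib.GroupTheory.DoubleCoset
import Mathlib.Tactic.Group
import Mathlib.Tactic.Push

/-!
# Finiteness of double cosets, abstract form

`Γ` a group with a Noetherian topology for which translations are continuous, `B` and `H` subgroups
which are irreducible subsets, and `P a` a family of subgroups containing `B`, "with one-dimensional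
complete quotients" `P a / B`.  If one double coset `B z H` is open then there are only finitely many
double cosets.
-/

set_option autoImplicit false

universe u v

open TopologicalSpace Topology

namespace K499.FinOrb

variable {Γ : Type u} [Group Γ] [TopologicalSpace Γ]

/-- the double coset -/
def D (B H : Subgroup Γ) (z : Γ) : Set Γ := {x | ∃ b ∈ B, ∃ h ∈ H, x = b * z * h}

/-- stability under `B × H` -/
def Stab (B H : Subgroup Γ) (Y : Set Γ) : Prop := ∀ b ∈ B, ∀ h ∈ H, ∀ y ∈ Y, b * y * h ∈ Y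

section basic

variable {B H : Subgroup Γ}

omit [TopologicalSpace Γ] in
lemma self_mem_D (z : Γ) : z ∈ D B H z := ⟨1, B.one_mem, 1, H.one_mem, by group⟩

omit [TopologicalSpace Γ] in
lemma stab_D (z : Γ) : Stab B H (D B H z) := by
  rintro b hb h hh _ ⟨b', hb', h', hh', rfl⟩
  exact ⟨b * b', B.mul_mem hb hb', h' * h, H.mul_mem hh' hh, by group⟩

omit [TopologicalSpace Γ] in
lemma D_subset {Y : Set Γ} (hY : Stab B H Y) {z : Γ} (hz : z ∈ Y) : D B H z ⊆ Y := by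
  rintro _ ⟨b, hb, h, hh, rfl⟩
  exact hY b hb h hh z hz

omit [TopologicalSpace Γ] in
lemma D_eq_of_mem {x z : Γ} (h : x ∈ D B H z) : D B H x = D B H z := by
  obtain ⟨b, hb, h', hh, rfl⟩ := h
  apply Set.Subset.antisymm
  · exact D_subset (stab_D z) ⟨b, hb, h', hh, rfl⟩
  · apply D_subset (stab_D _)
    exact ⟨b⁻¹, B.inv_mem hb, h'⁻¹, H.inv_mem hh, by group⟩

variable (hL : ∀ g : Γ, Continuous fun x : Γ => g * x) (hR : ∀ g : Γ, Continuous fun x : Γ => x * g)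

include hL hR in
lemma stab_closure {Y : Set Γ} (hY : Stab B H Y) : Stab B H (closure Y) := by
  intro b hb h hh y hy
  have hc : Continuous fun x : Γ => b * x * h := (hR h).comp (hL b)
  exact map_mem_closure (f := fun x : Γ => b * x * h) hc hy fun x hx => hY b hb h hh x hx

include hR in
/-- products of irreducible sets are irreducible -/
lemma irred_mul {X Y : Set Γ} (hX : IsIrreducible X) (hY : IsIrreducible Y)
    (hL : ∀ g : Γ, Continuous fun x : Γ => g * x) :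
    IsIrreducible {z | ∃ x ∈ X, ∃ y ∈ Y, z = x * y} := by
  obtain ⟨x₀, hx₀⟩ := hX.1
  obtain ⟨y₀, hy₀⟩ := hY.1
  refine ⟨⟨x₀ * y₀, x₀, hx₀, y₀, hy₀, rfl⟩, ?_⟩
  intro u v hu hv hXu hXv
  obtain ⟨_, ⟨x₁, hx₁, y₁, hy₁, rfl⟩, hu₁⟩ := hXu
  obtain ⟨_, ⟨x₂, hx₂, y₂, hy₂, rfl⟩, hv₂⟩ := hXv
  -- choose `x` with `x y₁ ∈ u` and `x y₂ ∈ v`
  obtain ⟨x, hx, hxu, hxv⟩ := hX.2 _ _ (hu.preimage (hR y₁)) (hv.preimage (hR y₂))
    ⟨x₁, hx₁, hu₁⟩ ⟨x₂, hx₂, hv₂⟩
  obtain ⟨y, hy, hyu, hyv⟩ := hY.2 _ _ (hu.preimage (hL x)) (hv.preimage (hL x))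
    ⟨y₁, hy₁, hxu⟩ ⟨y₂, hy₂, hxv⟩
  exact ⟨x * y, ⟨x, hx, y, hy, rfl⟩, hyu, hyv⟩

end basic

variable [NoetherianSpace Γ] {B H : Subgroup Γ}
  (hL : ∀ g : Γ, Continuous fun x : Γ => g * x) (hR : ∀ g : Γ, Continuous fun x : Γ => x * g)
  (hD : ∀ z : Γ, ∃ O : Set Γ, IsOpen O ∧ (O ∩ closure (D B H z)).Nonempty ∧
    O ∩ closure (D B H z) ⊆ D B H z)

omit [NoetherianSpace Γ] in
include hL hR hD in
/-- double cosets are open in their closure -/
lemma exists_open (z : Γ) : ∃ O : Set Γ, IsOpen O ∧ Stab B H O ∧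
    D B H z = O ∩ closure (D B H z) := by
  obtain ⟨O, hO, ⟨o, hoO, hoc⟩, hsub⟩ := hD z
  have ho := hsub ⟨hoO, hoc⟩
  let O' : Set Γ := {x | ∃ b ∈ B, ∃ h ∈ H, b * x * h ∈ O}
  have hO' : IsOpen O' := by
    have h1 : O' = ⋃ b ∈ B, ⋃ h ∈ H, (fun x : Γ => b * x * h) ⁻¹' O := by
      ext x
      simp only [O', Set.mem_iUnion, Set.mem_preimage, Set.mem_ofPred_eq, exists_prop]
    rw [h1]
    exact isOpen_biUnion fun b _ => isOpen_biUnion fun h _ => hO.preimage ((hR h).comp (hL b))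
  refine ⟨O', hO', ?_, ?_⟩
  · rintro b hb h hh x ⟨b', hb', h', hh', hx⟩
    exact ⟨b' * b⁻¹, B.mul_mem hb' (B.inv_mem hb), h⁻¹ * h', H.mul_mem (H.inv_mem hh) hh', by
      have : b' * b⁻¹ * (b * x * h) * (h⁻¹ * h') = b' * x * h' := by group
      rwa [this]⟩
  · apply Set.Subset.antisymm
    · intro x hx
      refine ⟨?_, subset_closure hx⟩
      have h1 : o ∈ D B H x := by
        rw [D_eq_of_mem hx]
        exact ho
      obtain ⟨b, hb, h, hh, rfl⟩ := h1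
      exact ⟨b, hb, h, hh, hoO⟩
    · rintro x ⟨⟨b, hb, h, hh, hx⟩, hxc⟩
      have h1 : b * x * h ∈ D B H z :=
        hsub ⟨hx, stab_closure hL hR (stab_D z) b hb h hh x hxc⟩
      have h2 := stab_D z b⁻¹ (B.inv_mem hb) h⁻¹ (H.inv_mem hh) _ h1
      have h3 : b⁻¹ * (b * x * h) * h⁻¹ = x := by group
      rwa [h3] at h2

variable {ι : Type v} {P : ι → Subgroup Γ} (hBP : ∀ a, B ≤ P a)
  (hP1 : ∀ a, ∀ Y : Set Γ, IsClosed Y → IsIrreducible Y → (∀ b ∈ B, ∀ y ∈ Y, b * y ∈ Y) →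
    IsClosed {z | ∃ p ∈ P a, ∃ y ∈ Y, z = p * y} ∧ IsIrreducible {z | ∃ p ∈ P a, ∃ y ∈ Y, z = p * y})
  (hP2 : ∀ Y : Set Γ, Y.Nonempty → (∀ a, ∀ p ∈ P a, ∀ y ∈ Y, p * y ∈ Y) → Y = Set.univ)
  (hP3 : ∀ a, ∀ F : Set Γ, IsClosed F → (∀ b ∈ B, ∀ x ∈ F, b * x ∈ F) → ¬ (P a : Set Γ) ⊆ F →
    ∃ s : Finset Γ, ∀ p ∈ P a, p ∈ F → ∃ q ∈ s, ∃ b ∈ B, p = b * q)
  (rk : Set Γ → ℕ) (hrk : ∀ Y Y' : Set Γ, IsClosed Y → IsIrreducible Y → IsClosed Y' →
    IsIrreducible Y' → Y ⊆ Y' → Y ≠ Y' → rk Y' < rk Y)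
  (hirr : IsIrreducible (Set.univ : Set Γ)) {z₀ : Γ} (hopen : IsOpen (D B H z₀))

omit [NoetherianSpace Γ] in
include hL hR hD hBP hP1 hP2 hP3 hrk hirr hopen in
/-- irreducible closed stable sets have a dense double coset -/
theorem exists_dense : ∀ (n : ℕ) (Y : Set Γ), rk Y = n → IsClosed Y → IsIrreducible Y →
    Stab B H Y → ∃ z ∈ Y, closure (D B H z) = Y := by
  intro n
  induction n using Nat.strong_induction_on with
  | _ n ih =>
  intro Y hn hYc hYi hYs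
  by_cases hall : ∀ a, ∀ p ∈ P a, ∀ y ∈ Y, p * y ∈ Y
  · have hY := hP2 Y hYi.1 hall
    refine ⟨z₀, by rw [hY]; trivial, ?_⟩
    rw [hY, Set.eq_univ_iff_forall]
    intro x
    rw [mem_closure_iff]
    intro o ho hxo
    obtain ⟨w, -, hw1, hw2⟩ := hirr.2 _ _ ho hopen ⟨x, trivial, hxo⟩ ⟨z₀, trivial, self_mem_D z₀⟩
    exact ⟨w, hw1, hw2⟩
  · push Not at hall
    obtain ⟨a, p₁, hp₁, y₁, hy₁, hne⟩ := hall
    set Z : Set Γ := {z | ∃ p ∈ P a, ∃ y ∈ Y, z = p * y} with hZ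
    obtain ⟨hZc, hZi⟩ := hP1 a Y hYc hYi fun b hb y hy => by
      have := hYs b hb 1 H.one_mem y hy
      rwa [mul_one] at this
    have hYZ : Y ⊆ Z := fun y hy => ⟨1, (P a).one_mem, y, hy, (one_mul y).symm⟩
    have hZP : ∀ p ∈ P a, ∀ z ∈ Z, p * z ∈ Z := by
      rintro p hp _ ⟨q, hq, y, hy, rfl⟩
      exact ⟨p * q, (P a).mul_mem hp hq, y, hy, (mul_assoc _ _ _).symm⟩
    have hZs : Stab B H Z := by
      rintro b hb h hh _ ⟨p, hp, y, hy, rfl⟩
      refine ⟨b * p, (P a).mul_mem (hBP a hb) hp, y * h, ?_, by group⟩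
      have := hYs 1 B.one_mem h hh y hy
      rwa [one_mul] at this
    have hYZne : Y ≠ Z := by
      intro h
      apply hne
      rw [h]
      exact ⟨p₁, hp₁, y₁, hy₁, rfl⟩
    obtain ⟨z, hz, hzZ⟩ := ih (rk Z) (by rw [← hn]; exact hrk Y Z hYc hYi hZc hZi hYZ hYZne) Z rfl
      hZc hZi hZs
    obtain ⟨O, hO, hOs, hOD⟩ := exists_open hL hR hD z
    rw [hzZ] at hOD
    have hzO : z ∈ O := (hOD.le (self_mem_D z)).1
    -- the exceptional cosets
    obtain ⟨s, hs⟩ := hP3 a {p | p * z ∉ O} (hO.preimage (hR z)).isClosed_compl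
      (fun b hb x hx hbx => hx (by
        have := hOs b⁻¹ (B.inv_mem hb) 1 H.one_mem _ hbx
        have h3 : b⁻¹ * (b * x * z) * 1 = x * z := by group
        rwa [h3] at this))
      (fun hsub => hsub (P a).one_mem (by rw [one_mul]; exact hzO))
    -- the open set `P z H` of `Z`
    let O'' : Set Γ := {x | ∃ p ∈ P a, p * x ∈ O}
    have hO'' : IsOpen O'' := by
      have h1 : O'' = ⋃ p ∈ P a, (fun x : Γ => p * x) ⁻¹' O := by
        ext x
        simp only [O'', Set.mem_iUnion, Set.mem_preimage, Set.mem_ofPred_eq, exists_prop]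
      rw [h1]
      exact isOpen_biUnion fun p _ => hO.preimage (hL p)
    obtain ⟨p₀, hp₀, y₀, hy₀, hz₀⟩ := hz
    have hy₀O : y₀ ∈ O'' := ⟨p₀, hp₀, by rw [← hz₀]; exact hzO⟩
    -- covering of `Y`
    have hcov : ∀ y ∈ Y, y ∈ O'' → ∃ q ∈ s, y ∈ D B H (q * z) := by
      rintro y hy ⟨p, hp, hpy⟩
      have h1 : p * y ∈ D B H z := by
        rw [hOD]
        exact ⟨hpy, hZP p hp y (hYZ hy)⟩
      obtain ⟨b, hb, h, hh, hpb⟩ := h1
      have hy' : y = p⁻¹ * b * z * h := by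
        have : y = p⁻¹ * (p * y) := by group
        rw [this, hpb]
        group
      have hpP : p⁻¹ * b ∈ P a := (P a).mul_mem ((P a).inv_mem hp) (hBP a hb)
      have hF : p⁻¹ * b * z ∉ O := by
        intro hO1
        have h2 : p⁻¹ * b * z ∈ D B H z := by
          rw [hOD]
          refine ⟨hO1, hZP _ hpP z ?_⟩
          exact ⟨p₀, hp₀, y₀, hy₀, hz₀⟩
        have h3 : y ∈ D B H z := by
          rw [hy']
          have := stab_D z 1 B.one_mem h hh _ h2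
          rwa [one_mul] at this
        have h4 : D B H z ⊆ Y := by
          rw [← D_eq_of_mem h3]
          exact D_subset hYs hy
        apply hYZne
        apply Set.Subset.antisymm hYZ
        rw [← hzZ]
        exact closure_minimal h4 hYc
      obtain ⟨q, hq, b', hb', hqb⟩ := hs _ hpP hF
      refine ⟨q, hq, b', hb', h, hh, ?_⟩
      rw [hy', hqb]
      group
    classical
    let s' : Finset Γ := s.filter fun q => q * z ∈ Y
    have hcov' : Y ⊆ (O'')ᶜ ∪ ⋃ q ∈ s', closure (D B H (q * z)) := by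
      intro y hy
      by_cases hyO : y ∈ O''
      · right
        obtain ⟨q, hq, hyq⟩ := hcov y hy hyO
        have hqY : q * z ∈ Y := by
          have h1 : q * z ∈ D B H y := by
            rw [D_eq_of_mem hyq]
            exact self_mem_D _
          exact D_subset hYs hy h1
        refine Set.mem_iUnion₂.2 ⟨q, Finset.mem_filter.2 ⟨hq, hqY⟩, subset_closure hyq⟩
      · exact Or.inl hyO
    have hcl : IsClosed (⋃ q ∈ s', closure (D B H (q * z))) :=
      s'.finite_toSet.isClosed_biUnion fun q _ => isClosed_closure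
    rcases (isPreirreducible_iff_isClosed_union_isClosed.1 hYi.2) _ _ hO''.isClosed_compl hcl hcov'
      with h1 | h1
    · exact absurd hy₀O (h1 hy₀)
    · have h2 : ∃ q ∈ s', Y ⊆ closure (D B H (q * z)) := by
        have h3 := (isIrreducible_iff_sUnion_isClosed.1 hYi) (s'.image fun q => closure (D B H (q * z)))
          (by
            intro c hc
            obtain ⟨q, -, rfl⟩ := Finset.mem_image.1 hc
            exact isClosed_closure)
          (by
            intro y hy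
            obtain ⟨q, hq, hyq⟩ := Set.mem_iUnion₂.1 (h1 hy)
            exact ⟨_, Finset.mem_coe.2 (Finset.mem_image.2 ⟨q, hq, rfl⟩), hyq⟩)
        obtain ⟨c, hc, hYc'⟩ := h3
        obtain ⟨q, hq, rfl⟩ := Finset.mem_image.1 hc
        exact ⟨q, hq, hYc'⟩
      obtain ⟨q, hq, hYq⟩ := h2
      have hqY := (Finset.mem_filter.1 hq).2
      exact ⟨q * z, hqY, Set.Subset.antisymm (closure_minimal (D_subset hYs hqY) hYc) hYq⟩

variable (hBi : IsIrreducible (B : Set Γ)) (hHi : IsIrreducible (H : Set Γ))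

include hL hR hD hBP hP1 hP2 hP3 hrk hirr hopen hBi hHi in
/-- **Finiteness of the number of double cosets.** -/
theorem exists_finset : ∃ s : Finset Γ, ∀ x : Γ, ∃ z ∈ s, x ∈ D B H z := by
  classical
  suffices h : ∀ Y : Closeds Γ, Stab B H (Y : Set Γ) →
      ∃ s : Finset Γ, ∀ x ∈ Y, ∃ z ∈ s, x ∈ D B H z by
    obtain ⟨s, hs⟩ := h ⊤ fun _ _ _ _ _ _ => trivial
    exact ⟨s, fun x => hs x trivial⟩
  intro Y
  induction Y using WellFoundedLT.induction with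
  | _ Y ih =>
  intro hYs
  obtain ⟨S, hSf, hSc, hSi, hSY⟩ := NoetherianSpace.exists_finite_set_isClosed_irreducible Y.isClosed
  -- the stable irreducible pieces
  let C : Set Γ → Set Γ := fun Z => closure {x | ∃ w ∈ {w | ∃ b ∈ (B : Set Γ), ∃ y ∈ Z, w = b * y},
    ∃ h ∈ (H : Set Γ), x = w * h}
  have hCi : ∀ Z ∈ S, IsIrreducible (C Z) := fun Z hZ =>
    (irred_mul hR (irred_mul hR hBi (hSi Z hZ) hL) hHi hL).closure
  have hCs : ∀ Z, Stab B H (C Z) := by
    intro Z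
    apply stab_closure hL hR
    rintro b hb h hh _ ⟨_, ⟨b', hb', y, hy, rfl⟩, h', hh', rfl⟩
    exact ⟨b * b' * y, ⟨b * b', B.mul_mem hb hb', y, hy, rfl⟩, h' * h, H.mul_mem hh' hh, by group⟩
  have hZC : ∀ Z, Z ⊆ C Z := by
    intro Z y hy
    exact subset_closure ⟨y, ⟨1, B.one_mem, y, hy, (one_mul y).symm⟩, 1, H.one_mem, (mul_one y).symm⟩
  have hCY : ∀ Z ∈ S, C Z ⊆ Y := by
    intro Z hZ
    apply closure_minimal _ Y.isClosed
    rintro _ ⟨_, ⟨b, hb, y, hy, rfl⟩, h, hh, rfl⟩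
    apply hYs b hb h hh y
    have : y ∈ ⋃₀ S := ⟨Z, hZ, hy⟩
    rwa [← hSY] at this
  have key : ∀ Z ∈ S, ∃ s : Finset Γ, ∀ x ∈ C Z, ∃ z ∈ s, x ∈ D B H z := by
    intro Z hZ
    obtain ⟨z, hz, hzC⟩ := exists_dense hL hR hD hBP hP1 hP2 hP3 rk hrk hirr hopen _ (C Z) rfl
      isClosed_closure (hCi Z hZ) (hCs Z)
    obtain ⟨O, hO, hOs, hOD⟩ := exists_open hL hR hD z
    rw [hzC] at hOD
    let Y' : Closeds Γ := ⟨C Z ∩ Oᶜ, isClosed_closure.inter hO.isClosed_compl⟩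
    have hlt : Y' < Y := by
      refine lt_of_le_of_ne (fun x hx => hCY Z hZ hx.1) ?_
      intro h
      have h1 : z ∈ Y := hCY Z hZ hz
      rw [← h] at h1
      exact h1.2 (hOD.le (self_mem_D z)).1
    have hY's : Stab B H (Y' : Set Γ) := by
      intro b hb h hh y hy
      refine ⟨hCs Z b hb h hh y hy.1, fun hO1 => hy.2 ?_⟩
      have := hOs b⁻¹ (B.inv_mem hb) h⁻¹ (H.inv_mem hh) _ hO1
      have h3 : b⁻¹ * (b * y * h) * h⁻¹ = y := by group
      rwa [h3] at this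
    obtain ⟨s, hs⟩ := ih Y' hlt hY's
    refine ⟨insert z s, fun x hx => ?_⟩
    by_cases hxO : x ∈ O
    · refine ⟨z, Finset.mem_insert_self _ _, ?_⟩
      rw [hOD]
      exact ⟨hxO, hx⟩
    · obtain ⟨w, hw, hxw⟩ := hs x ⟨hx, hxO⟩
      exact ⟨w, Finset.mem_insert_of_mem hw, hxw⟩
  choose! s hs using key
  refine ⟨hSf.toFinset.biUnion s, fun x hx => ?_⟩
  have hx' : x ∈ ⋃₀ S := by rw [← hSY]; exact hx
  obtain ⟨Z, hZ, hxZ⟩ := hx'
  obtain ⟨z, hz, hxz⟩ := hs Z hZ x (hZC Z hxZ)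
  exact ⟨z, Finset.mem_biUnion.2 ⟨Z, hSf.mem_toFinset.2 hZ, hz⟩, hxz⟩

end K499.FinOrb
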