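import Groth.Agent.AGF.K495.ParAbs
import Groth.Agent.AGF.K499.FinOrb

/-!
# Minimal parabolic subgroups, abstract form

For data `E : BData Γ idx` with `Ext E` and `a` simple: `par h ha`, the union of `B` and `B n_a B`, is a
subgroup.  If `Γ` has a topology with continuous translations and inversion for which `B` is closed
and irreducible, `U a` is infinite with finite intersections with the closed sets not containing it,
and `B n_a B` contains an open subset of its closure, then `par h ha` is closed and irreducible and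
closed left `B`-stable sets not containing it intersect it in finitely many cosets.
-/

set_option autoImplicit false
universe u v

open TopologicalSpace Topology

namespace K499.MinPar

open Groth.Agent.RedSub.H637.BruhatAbs K495.ParAbs K499.FinOrb

variable {Γ : Type u} [Group Γ] {idx : Type v} {E : BData Γ idx}

lemma pos_s (h : Ext E) {a : idx} (ha : a ∈ E.simple) {c : idx} (hc : c ∉ E.neg) (hca : c ≠ a) :
    E.s a c ∉ E.neg := by
  have h1 : E.opp c ∈ E.neg := (E.neg_opp c).2 hc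
  have h2 : E.opp c ≠ E.opp a := by
    intro he
    apply hca
    rw [← h.opp_opp c, he, h.opp_opp]
  have h3 := E.s_neg a ha _ h1 h2
  have h4 := E.s_opp a c
  rw [h.s_inv] at h4
  rw [h4] at h3
  exact (E.neg_opp _).1 h3

variable [Fintype idx]

lemma Up_factor (h : Ext E) {a : idx} (ha : a ∈ E.simple) {v : Γ} (hv : v ∈ E.Up) :
    ∃ v' : Γ, E.n a * v' * (E.n a)⁻¹ ∈ E.Up ∧ ∃ x ∈ E.U a, v = v' * x := by
  classical
  obtain ⟨L, hL, hL'⟩ := BData.exists_list {c | c ∉ E.neg ∧ c ≠ a}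
  have h1 := E.Up_ord (L ++ [a]) (by
    rw [List.nodup_append]
    refine ⟨hL, by simp, ?_⟩
    intro x hx y hy
    rw [List.mem_singleton] at hy
    rw [hy]
    exact ((hL' x).1 hx).2) (by
    intro c
    rw [List.mem_append, List.mem_singleton, hL']
    constructor
    · rintro (hc | rfl)
      · exact hc.1
      · exact E.simple_pos _ ha
    · intro hc
      by_cases hca : c = a
      · exact Or.inr hca
      · exact Or.inl ⟨hc, hca⟩) v hv
  rw [mem_PL_append] at h1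
  obtain ⟨v', hv', y, ⟨x, hx, z, hz, rfl⟩, rfl⟩ := h1
  rw [mem_PL_nil.1 hz, mul_one]
  refine ⟨v', PL_conj (fun c hc x hx => ?_) hv', x, hx, rfl⟩
  have h2 := (hL' c).1 hc
  exact E.U_le_Up _ (pos_s h ha h2.1 h2.2) (E.n_U a c x hx)

lemma n_mul_bor (h : Ext E) {a : idx} (ha : a ∈ E.simple) {y : Γ} (hy : y ∈ bor E) :
    ∃ b ∈ bor E, ∃ x ∈ E.U a, E.n a * y = b * (E.n a * x) := by
  obtain ⟨t, ht, v, hv, rfl⟩ := hy
  obtain ⟨v', hv', x, hx, rfl⟩ := Up_factor h ha hv
  refine ⟨(E.n a * t * (E.n a)⁻¹) * (E.n a * v' * (E.n a)⁻¹),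
    mul_mem (T_le_bor (E.T_n a t ht)) (Up_le_bor hv'), x, hx, ?_⟩
  group

lemma n_x_n {a : idx} (ha : a ∈ E.simple) {x : Γ} (hx : x ∈ E.U a) :
    E.n a * x * E.n a ∈ bor E ∨ ∃ b ∈ bor E, ∃ b' ∈ bor E, E.n a * x * E.n a = b * E.n a * b' := by
  by_cases hx1 : x = 1
  · left
    rw [hx1, mul_one]
    exact T_le_bor (E.n_sq a)
  · right
    obtain ⟨v, hv, t, ht, v', hv', rfl⟩ := E.rank1 a ha x hx hx1
    have h1 := E.n_U a _ v hv
    have h2 := E.n_U a _ v' hv'
    rw [E.s_opp_self] at h1 h2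
    have hUa := U_le_bor (E := E) (E.simple_pos a ha)
    refine ⟨_, hUa h1, (E.n a * t * (E.n a)⁻¹) * (E.n a * v' * (E.n a)⁻¹) * (E.n a * E.n a),
      mul_mem (mul_mem (T_le_bor (E.T_n a t ht)) (hUa h2)) (T_le_bor (E.n_sq a)), ?_⟩
    group

/-- The minimal parabolic subgroup. -/
def par (h : Ext E) {a : idx} (ha : a ∈ E.simple) : Subgroup Γ where
  carrier := {g | g ∈ bor E ∨ ∃ b ∈ bor E, ∃ b' ∈ bor E, g = b * E.n a * b'}
  one_mem' := Or.inl (one_mem _)
  mul_mem' := by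
    rintro x y (hx | ⟨b, hb, b', hb', rfl⟩) (hy | ⟨c, hc, c', hc', rfl⟩)
    · exact Or.inl (mul_mem hx hy)
    · exact Or.inr ⟨x * c, mul_mem hx hc, c', hc', by group⟩
    · exact Or.inr ⟨b, hb, b' * y, mul_mem hb' hy, by group⟩
    · obtain ⟨d, hd, x, hx, he⟩ := n_mul_bor h ha (mul_mem hb' hc)
      have h1 : b * E.n a * b' * (c * E.n a * c') = b * d * (E.n a * x * E.n a) * c' := by
        have h2 : b * E.n a * b' * (c * E.n a * c') = b * (E.n a * (b' * c)) * E.n a * c' := by group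
        rw [h2, he]
        group
      rw [h1]
      rcases n_x_n ha hx with h3 | ⟨f, hf, f', hf', h3⟩
      · exact Or.inl (mul_mem (mul_mem (mul_mem hb hd) h3) hc')
      · rw [h3]
        exact Or.inr ⟨b * d * f, mul_mem (mul_mem hb hd) hf, f' * c', mul_mem hf' hc', by group⟩
  inv_mem' := by
    rintro x (hx | ⟨b, hb, b', hb', rfl⟩)
    · exact Or.inl (inv_mem hx)
    · exact Or.inr ⟨b'⁻¹, inv_mem hb', (E.n a * E.n a)⁻¹ * b⁻¹,
        mul_mem (T_le_bor (inv_mem (E.n_sq a))) (inv_mem hb), by group⟩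

variable {a : idx}

lemma mem_par {h : Ext E} {ha : a ∈ E.simple} {g : Γ} : g ∈ par h ha ↔
    g ∈ bor E ∨ ∃ b ∈ bor E, ∃ b' ∈ bor E, g = b * E.n a * b' := Iff.rfl

lemma mem_par' {h : Ext E} {ha : a ∈ E.simple} {g : Γ} : g ∈ par h ha ↔
    g ∈ bor E ∨ ∃ b ∈ bor E, ∃ x ∈ E.U a, g = b * (E.n a * x) := by
  rw [mem_par]
  constructor
  · rintro (hg | ⟨b, hb, b', hb', rfl⟩)
    · exact Or.inl hg
    · obtain ⟨d, hd, x, hx, he⟩ := n_mul_bor h ha hb'
      exact Or.inr ⟨b * d, mul_mem hb hd, x, hx, by rw [mul_assoc b, he]; group⟩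
  · rintro (hg | ⟨b, hb, x, hx, rfl⟩)
    · exact Or.inl hg
    · exact Or.inr ⟨b, hb, x, U_le_bor (E.simple_pos a ha) hx, by group⟩

lemma bor_le_par (h : Ext E) (ha : a ∈ E.simple) : bor E ≤ par h ha := fun _ hg => Or.inl hg

lemma n_mem_par (h : Ext E) (ha : a ∈ E.simple) : E.n a ∈ par h ha :=
  Or.inr ⟨1, one_mem _, 1, one_mem _, by group⟩

/-- `n_a` is not in `B` -/
lemma n_notMem_bor (h : Ext E) (ha : a ∈ E.simple) : E.n a ∉ bor E := by
  intro hn
  have h1 := h.wl_eq_of_bwb (l := [a]) (l' := []) (one_mem (bor E)) (one_mem (bor E)) hn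
    (one_mem (bor E)) (by simp)
  rw [E.wl_cons, E.wl_nil, mul_one] at h1
  have h2 := E.s_opp_self a
  rw [h1, Equiv.Perm.one_apply] at h2
  have h3 := E.simple_pos a ha
  have h4 := (E.neg_opp a).2 h3
  rw [h2] at h4
  exact h3 h4

/-- generation -/
lemma eq_univ (h : Ext E) {Y : Set Γ} (hY : Y.Nonempty)
    (hs : ∀ (a : idx) (ha : a ∈ E.simple), ∀ p ∈ par h ha, ∀ y ∈ Y, p * y ∈ Y)
    (hne : E.simple.Nonempty) : Y = Set.univ := by
  obtain ⟨a₀, ha₀⟩ := hne
  obtain ⟨y, hy⟩ := hY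
  rw [Set.eq_univ_iff_forall]
  intro g
  obtain ⟨l, hl, x, hx, x', hx', he⟩ := h.exists_par (Q := ⊤) le_top
    (Subgroup.mem_top (g * y⁻¹))
  have h1 : ∀ l : List idx, (∀ c ∈ l, c ∈ jset E ⊤) → ∀ z ∈ Y, E.nl l * z ∈ Y := by
    intro l
    induction l with
    | nil => intro _ z hz; simpa using hz
    | cons c l ih =>
      intro hc z hz
      rw [E.nl_cons, mul_assoc]
      have hc1 := hc c (by simp)
      exact hs c hc1.1 _ (n_mem_par h hc1.1) _ (ih (fun d hd => hc d (List.mem_cons_of_mem _ hd)) z hz)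
  have h2 : g = x * (E.nl l * (x' * y)) := by
    have h3 : g = g * y⁻¹ * y := by group
    rw [h3, he]
    group
  rw [h2]
  exact hs a₀ ha₀ _ (bor_le_par h ha₀ hx) _ (h1 l hl _ (hs a₀ ha₀ _ (bor_le_par h ha₀ hx') _ hy))

section top

variable [TopologicalSpace Γ]
  (hL : ∀ g : Γ, Continuous fun x : Γ => g * x) (hR : ∀ g : Γ, Continuous fun x : Γ => x * g)
  (hI : Continuous fun x : Γ => x⁻¹) (h : Ext E) (ha : a ∈ E.simple)
  (hBc : IsClosed (bor E : Set Γ)) (hBi : IsIrreducible (bor E : Set Γ))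
  (hU : ∀ F : Set Γ, IsClosed F → ¬ (E.U a : Set Γ) ⊆ F → ((E.U a : Set Γ) ∩ F).Finite)
  (hUinf : (E.U a : Set Γ).Infinite)
  (hD : ∃ O : Set Γ, IsOpen O ∧ (O ∩ closure (D (bor E) (bor E) (E.n a))).Nonempty ∧
    O ∩ closure (D (bor E) (bor E) (E.n a)) ⊆ D (bor E) (bor E) (E.n a))

omit [TopologicalSpace Γ] in
lemma par_eq_union : (par h ha : Set Γ) = (bor E : Set Γ) ∪ D (bor E) (bor E) (E.n a) := by
  ext g
  rw [SetLike.mem_coe, mem_par]
  rfl

omit [TopologicalSpace Γ] in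
include h ha in
lemma disj : Disjoint (bor E : Set Γ) (D (bor E) (bor E) (E.n a)) := by
  rw [Set.disjoint_left]
  rintro x hx ⟨b, hb, b', hb', rfl⟩
  apply n_notMem_bor h ha
  have h1 : E.n a = b⁻¹ * (b * E.n a * b') * b'⁻¹ := by group
  rw [h1]
  exact mul_mem (mul_mem (inv_mem hb) hx) (inv_mem hb')

include hL hR hI hBc hD in
/-- Minimal parabolic subgroups are closed. -/
theorem isClosed_par : IsClosed (par h ha : Set Γ) := by
  obtain ⟨O, hO, hne, hsub⟩ := hD
  set C := closure (D (bor E) (bor E) (E.n a)) with hC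
  have hcl : closure (par h ha : Set Γ) = (bor E : Set Γ) ∪ C := by
    rw [par_eq_union, closure_union, hBc.closure_eq]
  -- stability properties of the closure
  have hQ1 : ∀ p ∈ par h ha, ∀ x ∈ closure (par h ha : Set Γ), p * x ∈ closure (par h ha : Set Γ) := by
    intro p hp x hx
    exact map_mem_closure (f := fun x : Γ => p * x) (hL p) hx fun y hy => (par h ha).mul_mem hp hy
  have hQ2 : ∀ x ∈ closure (par h ha : Set Γ), x⁻¹ ∈ closure (par h ha : Set Γ) := by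
    intro x hx
    exact map_mem_closure (f := fun x : Γ => x⁻¹) hI hx fun y hy => (par h ha).inv_mem hy
  have hQ3 : ∀ x ∈ closure (par h ha : Set Γ), ∀ p ∈ par h ha, x * p ∈ closure (par h ha : Set Γ) := by
    intro x hx p hp
    exact map_mem_closure (f := fun x : Γ => x * p) (hR p) hx fun y hy => (par h ha).mul_mem hy hp
  obtain ⟨v₀, hv₀O, hv₀C⟩ := hne
  have hv₀ : v₀ ∈ par h ha := by
    have := hsub ⟨hv₀O, hv₀C⟩
    change v₀ ∈ (par h ha : Set Γ)
    rw [par_eq_union]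
    exact Or.inr this
  have hv₀B : v₀ ∉ (bor E : Set Γ) := fun hb =>
    Set.disjoint_left.1 (disj h ha) hb (hsub ⟨hv₀O, hv₀C⟩)
  apply isClosed_of_closure_subset
  intro x hx
  have hW : IsOpen ((fun g : Γ => v₀ * x⁻¹ * g) ⁻¹' (O ∩ (bor E : Set Γ)ᶜ)) :=
    (hO.inter hBc.isOpen_compl).preimage (hL _)
  have hxW : x ∈ (fun g : Γ => v₀ * x⁻¹ * g) ⁻¹' (O ∩ (bor E : Set Γ)ᶜ) := by
    have : v₀ * x⁻¹ * x = v₀ := by group
    simp only [Set.mem_preimage, this]
    exact ⟨hv₀O, hv₀B⟩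
  obtain ⟨p, hpW, hp⟩ := mem_closure_iff.1 hx _ hW hxW
  have h1 : v₀ * x⁻¹ * p ∈ closure (par h ha : Set Γ) := hQ3 _ (hQ1 _ hv₀ _ (hQ2 x hx)) p hp
  rw [hcl] at h1
  have h2 : v₀ * x⁻¹ * p ∈ par h ha := by
    have h3 : v₀ * x⁻¹ * p ∈ C := h1.resolve_left hpW.2
    have := hsub ⟨hpW.1, h3⟩
    change _ ∈ (par h ha : Set Γ)
    rw [par_eq_union]
    exact Or.inr this
  have h3 : x = p * (v₀ * x⁻¹ * p)⁻¹ * v₀ := by group
  rw [h3]
  exact mul_mem (mul_mem hp (inv_mem h2)) hv₀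

include hL hR hI hBc hU hUinf hD in
/-- Minimal parabolic subgroups are irreducible, `B n_a B` is dense. -/
theorem closure_D : closure (D (bor E) (bor E) (E.n a)) = (par h ha : Set Γ) := by
  set C := closure (D (bor E) (bor E) (E.n a)) with hC
  have hPc := isClosed_par hL hR hI h ha hBc hD
  have hCP : C ⊆ par h ha := by
    apply closure_minimal _ hPc
    rw [par_eq_union]
    exact Set.subset_union_right
  have hst : Stab (bor E) (bor E) C := stab_closure hL hR (stab_D _)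
  apply Set.Subset.antisymm hCP
  rw [par_eq_union]
  apply Set.union_subset _ subset_closure
  by_contra hne
  have hdis : ∀ b ∈ bor E, b ∉ C := by
    intro b hb hbC
    apply hne
    intro b' hb'
    have := hst (b' * b⁻¹) (mul_mem hb' (inv_mem hb)) 1 (one_mem _) b hbC
    have h3 : b' * b⁻¹ * b * 1 = b' := by group
    rwa [h3] at this
  -- the trace on `U a`
  let F : Set Γ := (fun x : Γ => E.n a * x * (E.n a)⁻¹) ⁻¹' C
  have hF : IsClosed F := isClosed_closure.preimage ((hR _).comp (hL _))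
  have h1 : ¬ (E.U a : Set Γ) ⊆ F := by
    intro hsub
    have h2 : (1 : Γ) ∈ F := hsub (one_mem (E.U a))
    have h3 : E.n a * 1 * (E.n a)⁻¹ = 1 := by group
    change E.n a * 1 * (E.n a)⁻¹ ∈ C at h2
    rw [h3] at h2
    exact hdis 1 (one_mem _) h2
  have h2 := hU F hF h1
  have h3 : (E.U a : Set Γ) \ {1} ⊆ (E.U a : Set Γ) ∩ F := by
    rintro x ⟨hx, hx1⟩
    refine ⟨hx, ?_⟩
    obtain ⟨v, hv, t, ht, v', hv', rfl⟩ := E.rank1 a ha x hx hx1
    have h1 := E.n_U a _ v hv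
    have h2 := E.n_U a _ v' hv'
    rw [E.s_opp_self] at h1 h2
    have hUa := U_le_bor (E := E) (E.simple_pos a ha)
    apply subset_closure
    refine ⟨_, hUa h1, (E.n a * t * (E.n a)⁻¹) * (E.n a * v' * (E.n a)⁻¹),
      mul_mem (T_le_bor (E.T_n a t ht)) (hUa h2), ?_⟩
    group
  exact hUinf ((h2.subset h3).of_sdiff (Set.finite_singleton 1))

include hL hR hI hBc hBi hU hUinf hD in
theorem isIrreducible_par : IsIrreducible (par h ha : Set Γ) := by
  rw [← closure_D hL hR hI h ha hBc hU hUinf hD]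
  apply IsIrreducible.closure
  have h1 := irred_mul hR (irred_mul hR hBi (isIrreducible_singleton (x := E.n a)) hL) hBi hL
  have h2 : D (bor E) (bor E) (E.n a) = {z | ∃ x ∈ {z | ∃ x ∈ (bor E : Set Γ),
      ∃ y ∈ ({E.n a} : Set Γ), z = x * y}, ∃ y ∈ (bor E : Set Γ), z = x * y} := by
    ext z
    constructor
    · rintro ⟨b, hb, b', hb', rfl⟩
      exact ⟨b * E.n a, ⟨b, hb, _, rfl, rfl⟩, b', hb', rfl⟩
    · rintro ⟨_, ⟨b, hb, _, hn, rfl⟩, b', hb', rfl⟩
      rw [Set.mem_singleton_iff] at hn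
      rw [hn]
      exact ⟨b, hb, b', hb', rfl⟩
  rw [h2]
  exact h1

include hL hR hI hBc hU hUinf hD in
/-- Closed `B`-stable sets intersect the minimal parabolic in finitely many cosets. -/
theorem exists_finset_par {F : Set Γ} (hF : IsClosed F) (hFB : ∀ b ∈ bor E, ∀ x ∈ F, b * x ∈ F)
    (hne : ¬ (par h ha : Set Γ) ⊆ F) :
    ∃ s : Finset Γ, ∀ p ∈ par h ha, p ∈ F → ∃ q ∈ s, ∃ b ∈ bor E, p = b * q := by
  classical
  have h1 : ¬ (E.U a : Set Γ) ⊆ (fun x : Γ => E.n a * x) ⁻¹' F := by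
    intro hsub
    apply hne
    rw [← closure_D hL hR hI h ha hBc hU hUinf hD]
    apply closure_minimal _ hF
    rintro _ ⟨b, hb, b', hb', rfl⟩
    obtain ⟨d, hd, x, hx, he⟩ := n_mul_bor h ha hb'
    have h2 : b * E.n a * b' = (b * d) * (E.n a * x) := by
      rw [mul_assoc b, he]; group
    rw [h2]
    exact hFB _ (mul_mem hb hd) _ (hsub hx)
  have h2 := hU _ (hF.preimage (hL (E.n a))) h1
  refine ⟨insert 1 (h2.toFinset.image fun x => E.n a * x), ?_⟩
  intro p hp hpF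
  rw [mem_par'] at hp
  rcases hp with hp | ⟨b, hb, x, hx, rfl⟩
  · exact ⟨1, Finset.mem_insert_self _ _, p, hp, (mul_one p).symm⟩
  · refine ⟨E.n a * x, Finset.mem_insert_of_mem (Finset.mem_image.2 ⟨x, ?_, rfl⟩), b, hb, rfl⟩
    rw [Set.Finite.mem_toFinset]
    refine ⟨hx, ?_⟩
    have h3 := hFB b⁻¹ (inv_mem hb) _ hpF
    have h4 : b⁻¹ * (b * (E.n a * x)) = E.n a * x := by group
    rwa [h4] at h3

end top

end K499.MinPar
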