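import Groth.Agent.AGF.K499.FinOrb
import Groth.Agent.AGF.K499.MinPar
import Mathlib.Topology.KrullDimension
import Mathlib.Order.KrullDimension

/-!
# Finiteness of double cosets, abstract form, part 2

* `exists_idComp`: the irreducible component of the identity in a closed subgroup;
* `exists_rk`: the codimension of irreducible closed sets;
* `main`: the abstract finiteness theorem for data of an abstract Bruhat decomposition.
-/

set_option autoImplicit false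

universe u v

open TopologicalSpace Topology

namespace K499.FinOrb2

open K499.FinOrb Groth.Agent.RedSub.H637.BruhatAbs K495.ParAbs K499.MinPar

section idComp

variable {Γ : Type u} [Group Γ] [TopologicalSpace Γ] [NoetherianSpace Γ]
  (hL : ∀ g : Γ, Continuous fun x : Γ => g * x) (hR : ∀ g : Γ, Continuous fun x : Γ => x * g)

include hL hR in
/-- **The identity component of a closed subgroup.** -/
theorem exists_idComp (H : Subgroup Γ) (hH : IsClosed (H : Set Γ)) :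
    ∃ H₀ : Subgroup Γ, H₀ ≤ H ∧ IsClosed (H₀ : Set Γ) ∧ IsIrreducible (H₀ : Set Γ) ∧
      ∃ s : Finset Γ, (∀ c ∈ s, c ∈ H) ∧ ∀ h ∈ H, ∃ c ∈ s, ∃ h₀ ∈ H₀, h = h₀ * c := by
  classical
  obtain ⟨S, hSf, hSc, hSi, hSH⟩ := NoetherianSpace.exists_finite_set_isClosed_irreducible hH
  -- the irreducible closed subsets of `H` are contained in elements of `S`
  have hcont : ∀ Z : Set Γ, IsIrreducible Z → Z ⊆ H → ∃ Z' ∈ S, Z ⊆ Z' := by
    intro Z hZ hZH
    obtain ⟨Z', hZ', h⟩ := (isIrreducible_iff_sUnion_isClosed.1 hZ) hSf.toFinset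
      (fun c hc => hSc c (hSf.mem_toFinset.1 hc)) (by
        rw [Set.Finite.coe_toFinset, ← hSH]
        exact hZH)
    exact ⟨Z', hSf.mem_toFinset.1 hZ', h⟩
  have hsub : ∀ Z ∈ S, Z ⊆ (H : Set Γ) := fun Z hZ => by
    rw [hSH]
    exact Set.subset_sUnion_of_mem hZ
  have h1 : (1 : Γ) ∈ ⋃₀ S := by
    rw [← hSH]
    exact H.one_mem
  obtain ⟨Z₁, hZ₁, h1Z₁⟩ := h1
  -- a maximal element
  obtain ⟨Z₀, -, hZ₀⟩ := (hSf.subset (Set.sep_subset S fun Z => (1 : Γ) ∈ Z)).exists_le_maximal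
    (a := Z₁) ⟨hZ₁, h1Z₁⟩
  obtain ⟨⟨hZ₀S, h1Z₀⟩, hmax⟩ := hZ₀
  have hlarge : ∀ Z : Set Γ, IsIrreducible Z → Z ⊆ H → (1 : Γ) ∈ Z → Z ⊆ Z₀ := by
    intro Z hZ hZH h1Z
    have h2 := (irred_mul hR hZ (hSi Z₀ hZ₀S) hL)
    obtain ⟨Z', hZ', h3⟩ := hcont _ h2 (by
      rintro _ ⟨x, hx, y, hy, rfl⟩
      exact H.mul_mem (hZH hx) (hsub Z₀ hZ₀S hy))
    have h4 : Z₀ ⊆ Z' := fun y hy => h3 ⟨1, h1Z, y, hy, (one_mul y).symm⟩
    have h5 : Z' ⊆ Z₀ := hmax ⟨hZ', h4 h1Z₀⟩ h4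
    intro x hx
    exact h5 (h3 ⟨x, hx, 1, h1Z₀, (mul_one x).symm⟩)
  let H₀ : Subgroup Γ :=
    { carrier := Z₀
      one_mem' := h1Z₀
      mul_mem' := by
        intro x y hx hy
        apply hlarge _ (irred_mul hR (hSi Z₀ hZ₀S) (hSi Z₀ hZ₀S) hL)
        · rintro _ ⟨x, hx, y, hy, rfl⟩
          exact H.mul_mem (hsub Z₀ hZ₀S hx) (hsub Z₀ hZ₀S hy)
        · exact ⟨1, h1Z₀, 1, h1Z₀, (one_mul 1).symm⟩
        · exact ⟨x, hx, y, hy, rfl⟩
      inv_mem' := by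
        intro x hx
        apply hlarge ((fun y => x⁻¹ * y) '' Z₀)
          ((hSi Z₀ hZ₀S).image _ (hL x⁻¹).continuousOn)
        · rintro _ ⟨y, hy, rfl⟩
          exact H.mul_mem (H.inv_mem (hsub Z₀ hZ₀S hx)) (hsub Z₀ hZ₀S hy)
        · exact ⟨x, hx, inv_mul_cancel x⟩
        · exact ⟨1, h1Z₀, mul_one _⟩ }
  refine ⟨H₀, hsub Z₀ hZ₀S, hSc Z₀ hZ₀S, hSi Z₀ hZ₀S, ?_⟩
  choose! f hf using fun Z (hZ : Z ∈ S) => (hSi Z hZ).1
  refine ⟨hSf.toFinset.image f, ?_, ?_⟩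
  · intro c hc
    obtain ⟨Z, hZ, rfl⟩ := Finset.mem_image.1 hc
    exact hsub Z (hSf.mem_toFinset.1 hZ) (hf Z (hSf.mem_toFinset.1 hZ))
  · intro h hh
    have hh' : h ∈ ⋃₀ S := by rw [← hSH]; exact hh
    obtain ⟨Z, hZ, hhZ⟩ := hh'
    refine ⟨f Z, Finset.mem_image.2 ⟨Z, hSf.mem_toFinset.2 hZ, rfl⟩, h * (f Z)⁻¹, ?_, by group⟩
    apply hlarge ((fun y => y * (f Z)⁻¹) '' Z) ((hSi Z hZ).image _ (hR (f Z)⁻¹).continuousOn)
    · rintro _ ⟨y, hy, rfl⟩
      exact H.mul_mem (hsub Z hZ hy) (H.inv_mem (hsub Z hZ (hf Z hZ)))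
    · exact ⟨f Z, hf Z hZ, mul_inv_cancel _⟩
    · exact ⟨h, hhZ, rfl⟩

end idComp

section rk

/-- **Codimension of irreducible closed subsets.** -/
theorem exists_rk (T : Type u) [TopologicalSpace T] (hT : topologicalKrullDim T ≠ ⊤) :
    ∃ rk : Set T → ℕ, ∀ Y Y' : Set T, IsClosed Y → IsIrreducible Y → IsClosed Y' →
      IsIrreducible Y' → Y ⊆ Y' → Y ≠ Y' → rk Y' < rk Y := by
  classical
  have hfin : ∀ Z : IrreducibleCloseds T, Order.coheight Z ≠ ⊤ := by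
    intro Z h
    have h1 : (Order.coheight Z : WithBot ℕ∞) ≤ topologicalKrullDim T :=
      Order.coheight_le_krullDim Z
    rw [h] at h1
    exact hT (top_le_iff.1 h1)
  let rk : Set T → ℕ := fun Y => if h : IsIrreducible Y ∧ IsClosed Y then
    (Order.coheight (⟨Y, h.1, h.2⟩ : IrreducibleCloseds T)).toNat else 0
  refine ⟨rk, fun Y Y' hYc hYi hYc' hYi' hYY hne => ?_⟩
  have h1 : rk Y = (Order.coheight (⟨Y, hYi, hYc⟩ : IrreducibleCloseds T)).toNat :=
    dif_pos ⟨hYi, hYc⟩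
  have h2 : rk Y' = (Order.coheight (⟨Y', hYi', hYc'⟩ : IrreducibleCloseds T)).toNat :=
    dif_pos ⟨hYi', hYc'⟩
  rw [h1, h2]
  have h3 : (⟨Y, hYi, hYc⟩ : IrreducibleCloseds T) < ⟨Y', hYi', hYc'⟩ := by
    refine lt_of_le_of_ne hYY fun h => hne ?_
    exact congrArg (fun Z : IrreducibleCloseds T => (Z : Set T)) h
  have h4 := Order.coheight_strictAnti h3 (lt_top_iff_ne_top.2 (hfin _))
  rw [← ENat.coe_lt_coe, ENat.coe_toNat (hfin _), ENat.coe_toNat (hfin _)]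
  exact h4

end rk

section main

variable {Γ : Type u} [Group Γ] [TopologicalSpace Γ] [NoetherianSpace Γ]
  (hL : ∀ g : Γ, Continuous fun x : Γ => g * x) (hR : ∀ g : Γ, Continuous fun x : Γ => x * g)
  (hI : Continuous fun x : Γ => x⁻¹) (hirr : IsIrreducible (Set.univ : Set Γ))
  (hdim : topologicalKrullDim Γ ≠ ⊤)
  (hD : ∀ B H : Subgroup Γ, IsClosed (B : Set Γ) → IsClosed (H : Set Γ) →
    IsIrreducible (B : Set Γ) → IsIrreducible (H : Set Γ) → ∀ z : Γ,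
    ∃ O : Set Γ, IsOpen O ∧ (O ∩ closure (D B H z)).Nonempty ∧
      O ∩ closure (D B H z) ⊆ D B H z)
  {idx : Type v} [Fintype idx] {E : BData Γ idx} (h : Ext E)
  (hBc : IsClosed (bor E : Set Γ)) (hBi : IsIrreducible (bor E : Set Γ))
  (hU : ∀ a, ∀ F : Set Γ, IsClosed F → ¬ (E.U a : Set Γ) ⊆ F → ((E.U a : Set Γ) ∩ F).Finite)
  (hUinf : ∀ a, (E.U a : Set Γ).Infinite)
  (hPY : ∀ P : Subgroup Γ, IsClosed (P : Set Γ) → bor E ≤ P → ∀ Y : Set Γ, IsClosed Y →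
    (∀ b ∈ bor E, ∀ y ∈ Y, b * y ∈ Y) → IsClosed {z | ∃ p ∈ P, ∃ y ∈ Y, z = p * y})

include hL hR hI hirr hdim hD h hBc hBi hU hUinf hPY in
/-- **The abstract finiteness theorem.** -/
theorem main (H : Subgroup Γ) (hH : IsClosed (H : Set Γ)) {z₀ : Γ}
    (hopen : IsOpen (D (bor E) H z₀)) :
    ∃ s : Finset Γ, ∀ x : Γ, ∃ z ∈ s, x ∈ D (bor E) H z := by
  classical
  obtain ⟨H₀, hH₀, hH₀c, hH₀i, s, hsH, hs⟩ := exists_idComp hL hR H hH
  have hD₀ := hD (bor E) H₀ hBc hH₀c hBi hH₀i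
  -- the double coset of the identity component is open
  have hopen₀ : IsOpen (D (bor E) H₀ z₀) := by
    have h1 : closure (D (bor E) H₀ z₀) = Set.univ := by
      have h2 : (Set.univ : Set Γ) ⊆ ⋃ c ∈ s, closure ((fun x => x * c) '' D (bor E) H₀ z₀) := by
        have h3 : closure (D (bor E) H z₀) = Set.univ := by
          rw [Set.eq_univ_iff_forall]
          intro x
          rw [mem_closure_iff]
          intro o ho hxo
          obtain ⟨w, -, hw1, hw2⟩ := hirr.2 _ _ ho hopen ⟨x, trivial, hxo⟩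
            ⟨z₀, trivial, self_mem_D z₀⟩
          exact ⟨w, hw1, hw2⟩
        rw [← h3]
        apply closure_minimal
        · rintro _ ⟨b, hb, h', hh', rfl⟩
          obtain ⟨c, hc, h₀, hh₀, rfl⟩ := hs h' hh'
          refine Set.mem_iUnion₂.2 ⟨c, hc, subset_closure ⟨b * z₀ * h₀, ⟨b, hb, h₀, hh₀, rfl⟩, ?_⟩⟩
          simp only [mul_assoc]
        · exact s.finite_toSet.isClosed_biUnion fun c _ => isClosed_closure
      obtain ⟨Z, hZ, hZ'⟩ := (isIrreducible_iff_sUnion_isClosed.1 hirr)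
        (s.image fun c => closure ((fun x => x * c) '' D (bor E) H₀ z₀))
        (by
          intro Z hZ
          obtain ⟨c, -, rfl⟩ := Finset.mem_image.1 hZ
          exact isClosed_closure)
        (by
          intro x hx
          obtain ⟨c, hc, hxc⟩ := Set.mem_iUnion₂.1 (h2 hx)
          exact ⟨_, Finset.mem_coe.2 (Finset.mem_image.2 ⟨c, hc, rfl⟩), hxc⟩)
      obtain ⟨c, -, rfl⟩ := Finset.mem_image.1 hZ
      rw [Set.eq_univ_iff_forall]
      intro x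
      have h4 : x * c ∈ closure ((fun x => x * c) '' D (bor E) H₀ z₀) := hZ' trivial
      have h5 := map_mem_closure (f := fun x : Γ => x * c⁻¹) (hR c⁻¹) h4
        (t := D (bor E) H₀ z₀) (by
          rintro _ ⟨y, hy, rfl⟩
          have : y * c * c⁻¹ = y := by group
          change y * c * c⁻¹ ∈ _
          rw [this]
          exact hy)
      have h6 : x * c * c⁻¹ = x := by group
      rwa [h6] at h5
    obtain ⟨O, hO, -, hOD⟩ := exists_open hL hR hD₀ z₀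
    rw [h1, Set.inter_univ] at hOD
    rw [hOD]
    exact hO
  suffices hfin : ∃ s : Finset Γ, ∀ x : Γ, ∃ z ∈ s, x ∈ D (bor E) H₀ z by
    obtain ⟨s, hs⟩ := hfin
    refine ⟨s, fun x => ?_⟩
    obtain ⟨z, hz, b, hb, h₀, hh₀, rfl⟩ := hs x
    exact ⟨z, hz, b, hb, h₀, hH₀ hh₀, rfl⟩
  by_cases hne : E.simple.Nonempty
  · obtain ⟨rk, hrk⟩ := exists_rk Γ hdim
    have hDD : ∀ a, ∃ O : Set Γ, IsOpen O ∧
        (O ∩ closure (D (bor E) (bor E) (E.n a))).Nonempty ∧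
        O ∩ closure (D (bor E) (bor E) (E.n a)) ⊆ D (bor E) (bor E) (E.n a) := fun a =>
      hD _ _ hBc hBc hBi hBi _
    let P : E.simple → Subgroup Γ := fun a => par h a.2
    refine exists_finset (B := bor E) (H := H₀) (P := P) hL hR hD₀ (fun a => bor_le_par h a.2)
      ?_ ?_ ?_ rk hrk hirr hopen₀ hBi hH₀i
    · intro a Y hYc hYi hYB
      refine ⟨hPY _ (isClosed_par hL hR hI h a.2 hBc (hDD a)) (bor_le_par h a.2) Y hYc hYB, ?_⟩
      exact irred_mul hR (isIrreducible_par hL hR hI h a.2 hBc hBi (hU a) (hUinf a) (hDD a)) hYi hL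
    · intro Y hY hstab
      exact eq_univ h hY (fun a ha p hp y hy => hstab ⟨a, ha⟩ p hp y hy) hne
    · intro a F hF hFB hPF
      exact exists_finset_par hL hR hI h a.2 hBc (hU a) (hUinf a) (hDD a) hF hFB hPF
  · refine ⟨{1}, fun x => ⟨1, Finset.mem_singleton_self _, ?_⟩⟩
    obtain ⟨l, hl, y, hy, y', hy', he⟩ := h.exists_par (Q := ⊤) le_top (Subgroup.mem_top x)
    have hl' : l = [] := by
      rcases l with _ | ⟨a, l⟩
      · rfl
      · exact absurd ⟨a, (hl a (by simp)).1⟩ hne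
    rw [hl', E.nl_nil, mul_one] at he
    exact ⟨x, by rw [he]; exact mul_mem hy hy', 1, one_mem _, by group⟩

end main

end K499.FinOrb2
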