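import Groth.Agent.AGF.K499.FinOrb2

/-!
# Finiteness of double cosets, abstract form, part 3: transport along an isomorphism
-/

set_option autoImplicit false

universe u v

open TopologicalSpace Topology

namespace K499.FinOrb2

open K499.FinOrb Groth.Agent.RedSub.H637.BruhatAbs K495.ParAbs K499.MinPar

variable {Γ Γ' : Type u} [Group Γ] [Group Γ']

lemma image_D (e : Γ →* Γ') (B H : Subgroup Γ) (z : Γ) :
    e '' D B H z = D (B.map e) (H.map e) (e z) := by
  ext x
  constructor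
  · rintro ⟨_, ⟨b, hb, h, hh, rfl⟩, rfl⟩
    exact ⟨e b, ⟨b, hb, rfl⟩, e h, ⟨h, hh, rfl⟩, by rw [map_mul, map_mul]⟩
  · rintro ⟨_, ⟨b, hb, rfl⟩, _, ⟨h, hh, rfl⟩, rfl⟩
    exact ⟨b * z * h, ⟨b, hb, h, hh, rfl⟩, by rw [map_mul, map_mul]⟩

theorem main' [TopologicalSpace Γ'] [NoetherianSpace Γ'] (e : Γ →* Γ')
    (hei : Function.Injective e) (hes : Function.Surjective e)
    (hL : ∀ g : Γ', Continuous fun x : Γ' => g * x) (hR : ∀ g : Γ', Continuous fun x : Γ' => x * g)
    (hI : Continuous fun x : Γ' => x⁻¹) (hirr : IsIrreducible (Set.univ : Set Γ'))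
    (hdim : topologicalKrullDim Γ' ≠ ⊤)
    (hD : ∀ B H : Subgroup Γ', IsClosed (B : Set Γ') → IsClosed (H : Set Γ') →
      IsIrreducible (B : Set Γ') → IsIrreducible (H : Set Γ') → ∀ z : Γ',
      ∃ O : Set Γ', IsOpen O ∧ (O ∩ closure (D B H z)).Nonempty ∧
        O ∩ closure (D B H z) ⊆ D B H z)
    {idx : Type v} [Fintype idx] {E : BData Γ idx} (h : Ext E) {B' : Subgroup Γ'}
    (hB' : ∀ g, g ∈ bor E ↔ e g ∈ B')
    (hBc : IsClosed (B' : Set Γ')) (hBi : IsIrreducible (B' : Set Γ'))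
    (hU : ∀ a, ∀ F : Set Γ', IsClosed F → ¬ (E.U a : Set Γ) ⊆ e ⁻¹' F →
      ((E.U a : Set Γ) ∩ e ⁻¹' F).Finite)
    (hUinf : ∀ a, (E.U a : Set Γ).Infinite)
    (hPY : ∀ P : Subgroup Γ', IsClosed (P : Set Γ') → B' ≤ P → ∀ Y : Set Γ', IsClosed Y →
      (∀ b ∈ B', ∀ y ∈ Y, b * y ∈ Y) → IsClosed {z | ∃ p ∈ P, ∃ y ∈ Y, z = p * y})
    (H : Subgroup Γ') (hH : IsClosed (H : Set Γ')) {z₀ : Γ'}
    (hopen : IsOpen (D B' H z₀)) :
    ∃ s : Finset Γ', ∀ x : Γ', ∃ z ∈ s, x ∈ D B' H z := by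
  classical
  let _ : TopologicalSpace Γ := TopologicalSpace.induced e inferInstance
  have hind : IsInducing e := ⟨rfl⟩
  let hh : Γ ≃ₜ Γ' := (Equiv.ofBijective e ⟨hei, hes⟩).toHomeomorphOfIsInducing hind
  have hhe : ∀ x, hh x = e x := fun _ => rfl
  have hhs : ∀ x, e (hh.symm x) = x := fun x => by rw [← hhe, hh.apply_symm_apply]
  have hnoeth : NoetherianSpace Γ := hind.noetherianSpace
  have hBmap : (bor E).map e = B' := by
    ext x
    constructor
    · rintro ⟨g, hg, rfl⟩
      exact (hB' g).1 hg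
    · intro hx
      obtain ⟨g, rfl⟩ := hes x
      exact ⟨g, (hB' g).2 hx, rfl⟩
  have hBpre : (bor E : Set Γ) = e ⁻¹' B' := by
    ext g
    exact hB' g
  have hcl : ∀ S : Set Γ, IsClosed S → IsClosed (e '' S) := fun S hS => hh.isClosedMap S hS
  have hirrI : ∀ S : Set Γ, IsIrreducible S → IsIrreducible (e '' S) := fun S hS =>
    hS.image e hind.continuous.continuousOn
  have hirrP : ∀ S : Set Γ', IsIrreducible S → IsIrreducible (e ⁻¹' S) := by
    intro S hS
    have h1 := hS.image hh.symm hh.symm.continuous.continuousOn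
    have h2 : hh.symm '' S = e ⁻¹' S := by
      rw [hh.symm.image_eq_preimage_symm]
      rfl
    rwa [h2] at h1
  obtain ⟨w₀, rfl⟩ := hes z₀
  have key := main (Γ := Γ) (E := E)
    (fun g => hind.continuous_iff.2 (by
      have h1 : (e ∘ fun x : Γ => g * x) = (fun x : Γ' => e g * x) ∘ e := by
        funext x
        exact map_mul e g x
      rw [h1]
      exact (hL _).comp hind.continuous))
    (fun g => hind.continuous_iff.2 (by
      have h1 : (e ∘ fun x : Γ => x * g) = (fun x : Γ' => x * e g) ∘ e := by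
        funext x
        exact map_mul e x g
      rw [h1]
      exact (hR _).comp hind.continuous))
    (hind.continuous_iff.2 (by
      have h1 : (e ∘ fun x : Γ => x⁻¹) = (fun x : Γ' => x⁻¹) ∘ e := by
        funext x
        exact map_inv e x
      rw [h1]
      exact hI.comp hind.continuous))
    (hirrP _ hirr)
    (fun htop => by
      have h1 := hind.topologicalKrullDim_le
      rw [htop] at h1
      exact hdim (top_le_iff.1 h1))
    (fun B H hB hH hBi hHi z => by
      obtain ⟨O, hO, hne, hsub⟩ := hD (B.map e) (H.map e) (by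
        rw [Subgroup.coe_map]; exact hcl _ hB) (by
        rw [Subgroup.coe_map]; exact hcl _ hH) (by
        rw [Subgroup.coe_map]; exact hirrI _ hBi) (by
        rw [Subgroup.coe_map]; exact hirrI _ hHi) (e z)
      rw [← image_D] at hne hsub
      have hc : closure (D B H z) = e ⁻¹' closure (e '' D B H z) :=
        hind.closure_eq_preimage_closure_image _
      refine ⟨e ⁻¹' O, hO.preimage hind.continuous, ?_, ?_⟩
      · obtain ⟨x, hxO, hxc⟩ := hne
        obtain ⟨y, rfl⟩ := hes x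
        exact ⟨y, hxO, by rw [hc]; exact hxc⟩
      · rintro x ⟨hxO, hxc⟩
        rw [hc] at hxc
        obtain ⟨y, hy, hyx⟩ := hsub ⟨hxO, hxc⟩
        rwa [← hei hyx])
    h
    (by rw [hBpre]; exact hBc.preimage hind.continuous)
    (by rw [hBpre]; exact hirrP _ hBi)
    (fun a F hF hne => by
      have h1 : e ⁻¹' (e '' F) = F := Set.preimage_image_eq F hei
      have h2 := hU a (e '' F) (hcl F hF)
      rw [h1] at h2
      exact h2 hne)
    hUinf
    (fun P hP hBP Y hY hBY => by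
      have h1 := hPY (P.map e) (by rw [Subgroup.coe_map]; exact hcl _ hP)
        (by rw [← hBmap]; exact Subgroup.map_mono hBP) (e '' Y) (hcl _ hY) (by
          rintro b hb _ ⟨y, hy, rfl⟩
          rw [← hBmap] at hb
          obtain ⟨g, hg, rfl⟩ := hb
          exact ⟨g * y, hBY g hg y hy, map_mul e g y⟩)
      have h2 : {z | ∃ p ∈ P, ∃ y ∈ Y, z = p * y} =
          e ⁻¹' {z | ∃ p ∈ P.map e, ∃ y ∈ e '' Y, z = p * y} := by
        ext z
        constructor
        · rintro ⟨p, hp, y, hy, rfl⟩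
          exact ⟨e p, ⟨p, hp, rfl⟩, e y, ⟨y, hy, rfl⟩, map_mul e p y⟩
        · rintro ⟨_, ⟨p, hp, rfl⟩, _, ⟨y, hy, rfl⟩, he⟩
          exact ⟨p, hp, y, hy, hei (by rw [he, map_mul])⟩
      rw [h2]
      exact h1.preimage hind.continuous)
    (H.comap e) (hH.preimage hind.continuous) (z₀ := w₀) (by
      have h1 : D (bor E) (H.comap e) w₀ = e ⁻¹' D B' H (e w₀) := by
        have h2 := image_D e (bor E) (H.comap e) w₀
        rw [hBmap, Subgroup.map_comap_eq_self_of_surjective hes] at h2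
        rw [← h2, Set.preimage_image_eq _ hei]
      rw [h1]
      exact hopen.preimage hind.continuous)
  obtain ⟨s, hs⟩ := key
  refine ⟨s.image e, fun x => ?_⟩
  obtain ⟨g, rfl⟩ := hes x
  obtain ⟨z, hz, hgz⟩ := hs g
  refine ⟨e z, Finset.mem_image_of_mem _ hz, ?_⟩
  have h2 := image_D e (bor E) (H.comap e) z
  rw [hBmap, Subgroup.map_comap_eq_self_of_surjective hes] at h2
  rw [← h2]
  exact ⟨g, hgz, rfl⟩

end K499.FinOrb2
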