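import Groth.Agent.AGF.K499.PtTop
import Groth.Agent.Books.AlgPtsIrred
import Groth.Prelude.Def_RedSub

/-!
# The Zariski topology on the rational points of a group scheme over an algebraically closed field
-/

set_option autoImplicit false
universe u v

open CategoryTheory MonoidalCategory CartesianMonoidalCategory MonObj GrpObj AlgebraicGeometry
  TopologicalSpace Topology Limits

namespace K499.GrpTop

open Groth.Agent.Books.AlgPts K499.PtTop K499.FinOrb

attribute [local instance] topo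

variable {k : Type u} [Field k] {G : Over (Spec (CommRingCat.of k))} [GrpObj G]

local notation "𝕆" => 𝟙_ (Over (Spec (CommRingCat.of k)))

omit [GrpObj G] in
lemma comp_toUnit {X : Over (Spec (CommRingCat.of k))} (x : 𝕆 ⟶ X) (g : 𝕆 ⟶ G) :
    x ≫ (toUnit X ≫ g) = g := by
  rw [← Category.assoc, toUnit_unique (x ≫ toUnit X) (𝟙 _), Category.id_comp]

lemma continuous_mul_left (g : 𝕆 ⟶ G) : Continuous fun x : 𝕆 ⟶ G => g * x := by
  have h := continuous_comp ((toUnit G ≫ g) * 𝟙 G)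
  have h1 : (fun x : 𝕆 ⟶ G => x ≫ ((toUnit G ≫ g) * 𝟙 G)) = fun x : 𝕆 ⟶ G => g * x := by
    funext x
    rw [MonObj.comp_mul, comp_toUnit, Category.comp_id]
  rwa [h1] at h

lemma continuous_mul_right (g : 𝕆 ⟶ G) : Continuous fun x : 𝕆 ⟶ G => x * g := by
  have h := continuous_comp (𝟙 G * (toUnit G ≫ g))
  have h1 : (fun x : 𝕆 ⟶ G => x ≫ (𝟙 G * (toUnit G ≫ g))) = fun x : 𝕆 ⟶ G => x * g := by
    funext x
    rw [MonObj.comp_mul, comp_toUnit, Category.comp_id]
  rwa [h1] at h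

lemma continuous_inv : Continuous fun x : 𝕆 ⟶ G => x⁻¹ := by
  have h := continuous_comp ((𝟙 G)⁻¹)
  have h1 : (fun x : 𝕆 ⟶ G => x ≫ (𝟙 G)⁻¹) = fun x : 𝕆 ⟶ G => x⁻¹ := by
    funext x
    rw [GrpObj.comp_inv, Category.comp_id]
  rwa [h1] at h

/-- the double coset map -/
noncomputable abbrev dmap (z : 𝕆 ⟶ G) : G ⊗ G ⟶ G :=
  fst G G * (toUnit (G ⊗ G) ≫ z) * snd G G

lemma comp_dmap (z : 𝕆 ⟶ G) (x : 𝕆 ⟶ G ⊗ G) :
    x ≫ dmap z = (x ≫ fst G G) * z * (x ≫ snd G G) := by
  rw [dmap, MonObj.comp_mul, MonObj.comp_mul, comp_toUnit]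

variable [IsAlgClosed k] [LocallyOfFiniteType G.hom] [QuasiCompact G.hom]

instance lft_tensor {X Y : Over (Spec (CommRingCat.of k))} [LocallyOfFiniteType X.hom]
    [LocallyOfFiniteType Y.hom] : LocallyOfFiniteType (X ⊗ Y).hom := by
  have hw1 : (fst X Y).left ≫ X.hom = (X ⊗ Y).hom := Over.w (fst X Y)
  have hp : LocallyOfFiniteType (fst X Y).left :=
    inferInstanceAs (LocallyOfFiniteType (pullback.fst X.hom Y.hom))
  rw [← hw1]
  infer_instance

instance qc_tensor {X Y : Over (Spec (CommRingCat.of k))} [QuasiCompact X.hom]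
    [QuasiCompact Y.hom] : QuasiCompact (X ⊗ Y).hom := by
  have hw1 : (fst X Y).left ≫ X.hom = (X ⊗ Y).hom := Over.w (fst X Y)
  have hp : QuasiCompact (fst X Y).left :=
    inferInstanceAs (QuasiCompact (pullback.fst X.hom Y.hom))
  rw [← hw1]
  infer_instance

/-- **Double cosets contain an open subset of their closure.** -/
theorem exists_open_D {B H : Subgroup (𝕆 ⟶ G)} (hB : IsClosed (B : Set (𝕆 ⟶ G)))
    (hH : IsClosed (H : Set (𝕆 ⟶ G))) (hBi : IsIrreducible (B : Set (𝕆 ⟶ G)))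
    (hHi : IsIrreducible (H : Set (𝕆 ⟶ G))) (z : 𝕆 ⟶ G) :
    ∃ O : Set (𝕆 ⟶ G), IsOpen O ∧ (O ∩ closure (D B H z)).Nonempty ∧
      O ∩ closure (D B H z) ⊆ D B H z := by
  let C : Set (𝕆 ⟶ G ⊗ G) := (fun x => x ≫ fst G G) ⁻¹' B ∩ (fun x => x ≫ snd G G) ⁻¹' H
  have hC : IsClosed C := (hB.preimage (continuous_comp _)).inter (hH.preimage (continuous_comp _))
  have him : (fun x : 𝕆 ⟶ G ⊗ G => x ≫ dmap z) '' C = D B H z := by
    ext g
    constructor
    · rintro ⟨x, ⟨hx1, hx2⟩, rfl⟩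
      exact ⟨_, hx1, _, hx2, comp_dmap z x⟩
    · rintro ⟨b, hb, h, hh, rfl⟩
      refine ⟨lift b h, ⟨?_, ?_⟩, ?_⟩
      · simpa using hb
      · simpa using hh
      · change lift b h ≫ dmap z = _
        rw [comp_dmap, lift_fst, lift_snd]
  have hirr : IsIrreducible (D B H z) := by
    have h1 := irred_mul continuous_mul_right (irred_mul continuous_mul_right hBi
      (isIrreducible_singleton (x := z)) continuous_mul_left) hHi continuous_mul_left
    have h2 : D B H z = {w | ∃ x ∈ {w | ∃ x ∈ (B : Set (𝕆 ⟶ G)),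
        ∃ y ∈ ({z} : Set (𝕆 ⟶ G)), w = x * y}, ∃ y ∈ (H : Set (𝕆 ⟶ G)), w = x * y} := by
      ext w
      constructor
      · rintro ⟨b, hb, b', hb', rfl⟩
        exact ⟨b * z, ⟨b, hb, _, rfl, rfl⟩, b', hb', rfl⟩
      · rintro ⟨_, ⟨b, hb, _, hn, rfl⟩, b', hb', rfl⟩
        rw [Set.mem_singleton_iff] at hn
        rw [hn]
        exact ⟨b, hb, b', hb', rfl⟩
    rw [h2]
    exact h1
  have := exists_open_image (dmap z) hC (by rw [him]; exact hirr)
  rwa [him] at this

omit [IsAlgClosed k] in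
theorem isPullback_fst {A B : Over (Spec (CommRingCat.of k))} (m : A ⟶ B)
    (Y : Over (Spec (CommRingCat.of k))) :
    IsPullback (fst A Y).left (m ▷ Y).left m.left (fst B Y).left := by
  have h : IsPullback (fst A Y) (m ▷ Y) m (fst B Y) := by
    refine ⟨⟨by simp⟩, ⟨Limits.PullbackCone.IsLimit.mk _ (fun s => lift s.fst (s.snd ≫ snd _ _)) ?_ ?_ ?_⟩⟩
    · intro s; simp
    · intro s
      apply CartesianMonoidalCategory.hom_ext
      · simp [s.condition]
      · simp
    · intro s t h1 h2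
      apply CartesianMonoidalCategory.hom_ext
      · simpa using h1
      · simp [← h2]
  exact h.map (Over.forget _)

variable {B Q : Over (Spec (CommRingCat.of k))} [GrpObj B] (iB : B ⟶ G) [IsMonHom iB]

omit [QuasiCompact G.hom] in
/-- **Completeness of the quotient.** If `G / B` is proper then `P Y` is closed for every closed
subgroup `P` containing `B` and every closed subset `Y` stable under left translation by `B`. -/
theorem isClosed_mul [IsProper Q.hom] (q : G ⟶ Q)
    (hq : RedSub.IsQuotient iB q) {P : Subgroup (𝕆 ⟶ G)} (hP : IsClosed (P : Set (𝕆 ⟶ G)))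
    (hBP : ∀ b : 𝕆 ⟶ B, b ≫ iB ∈ P) {Y : Set (𝕆 ⟶ G)} (hY : IsClosed Y)
    (hBY : ∀ b : 𝕆 ⟶ B, ∀ y ∈ Y, (b ≫ iB) * y ∈ Y) :
    IsClosed {z | ∃ p ∈ P, ∃ y ∈ Y, z = p * y} := by
  obtain ⟨hq1, hq2, hq3, hq4⟩ := hq
  have hpb := isPullback_fst q G
  have hflat : Flat (q ▷ G).left := MorphismProperty.of_isPullback hpb hq2
  have hlfp : LocallyOfFinitePresentation (q ▷ G).left := MorphismProperty.of_isPullback hpb hq3
  have hsur : Surjective (q ▷ G).left := MorphismProperty.of_isPullback hpb hq1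
  have hopen : IsOpenMap (q ▷ G).left := (q ▷ G).left.isOpenMap
  have hpr : IsProper (snd Q G).left :=
    inferInstanceAs (IsProper (pullback.snd Q.hom G.hom))
  have hcl : IsClosedMap (snd Q G).left := (snd Q G).left.isClosedMap
  let W : Set (𝕆 ⟶ G ⊗ G) := (fun w => w ≫ fst G G) ⁻¹' P ∩
    (fun w => w ≫ ((fst G G)⁻¹ * snd G G)) ⁻¹' Y
  have hW : IsClosed W := (hP.preimage (continuous_comp _)).inter (hY.preimage (continuous_comp _))
  have hV := isOpenMap_comp (q ▷ G) hopen _ hW.isOpen_compl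
  have hV' := isClosedMap_comp (snd Q G) hcl _ hV.isClosed_compl
  convert hV' using 1
  ext z
  constructor
  · rintro ⟨p, hp, y, hy, rfl⟩
    refine ⟨lift p (p * y) ≫ (q ▷ G), ?_, ?_⟩
    · rintro ⟨w', hw', he⟩
      apply hw'
      have he1 : w' ≫ snd G G = p * y := by
        have := congrArg (fun t => t ≫ snd Q G) he
        simpa using this
      have he2 : p ≫ q = (w' ≫ fst G G) ≫ q := by
        have := congrArg (fun t => t ≫ fst Q G) he
        simp only [Category.assoc, whiskerRight_fst] at this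
        rw [lift_fst_assoc] at this
        rw [Category.assoc]
        exact this.symm
      obtain ⟨l, hl1, hl2⟩ := hq4.exists_lift p (w' ≫ fst G G) he2
      have hl3 : w' ≫ fst G G = p * ((l ≫ snd G B) ≫ iB) := by
        have h5 : l ≫ (G ◁ iB) = lift p ((l ≫ snd G B) ≫ iB) := by
          apply CartesianMonoidalCategory.hom_ext
          · simp [hl1]
          · simp
        rw [← hl2, Hom.mul_def, ← h5, Category.assoc]
      refine ⟨?_, ?_⟩
      · change w' ≫ fst G G ∈ P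
        rw [hl3]
        exact P.mul_mem hp (hBP _)
      · change w' ≫ ((fst G G)⁻¹ * snd G G) ∈ Y
        rw [MonObj.comp_mul, GrpObj.comp_inv, he1, hl3]
        have h1 : (p * ((l ≫ snd G B) ≫ iB))⁻¹ * (p * y) = ((l ≫ snd G B)⁻¹ ≫ iB) * y := by
          rw [GrpObj.inv_comp]
          group
        rw [h1]
        exact hBY _ _ hy
    · change (lift p (p * y) ≫ (q ▷ G)) ≫ snd Q G = p * y
      simp
  · rintro ⟨v, hv, rfl⟩
    obtain ⟨w, rfl⟩ := exists_comp_eq_of_pt_mem_range (q ▷ G) v (hsur.surj _)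
    have hw : w ∈ W := by
      by_contra hw
      exact hv ⟨w, hw, rfl⟩
    obtain ⟨hw1, hw2⟩ := hw
    refine ⟨_, hw1, _, hw2, ?_⟩
    change (w ≫ (q ▷ G)) ≫ snd Q G = (w ≫ fst G G) * (w ≫ ((fst G G)⁻¹ * snd G G))
    rw [MonObj.comp_mul, GrpObj.comp_inv, mul_inv_cancel_left]
    simp

end K499.GrpTop
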