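import Groth.Agent.Sga3B.RootFinal136
import Groth.Agent.Sga3B.Parab.SplitMax128
import Groth.Agent.Sga3B.MaxTorBc636
import Groth.Agent.Sga3B.TorusBc
import Groth.Agent.Pi1C.StrictHensPoint
import Groth.Agent.Sga3B.IsomHa505
import Groth.Agent.Sga3B.RedBcAny636

/-!
# Reductive groups over separably closed fields are split
-/

set_option autoImplicit false
universe u

open CategoryTheory MonoidalCategory CartesianMonoidalCategory MonObj GrpObj AlgebraicGeometry

namespace K499.SepSplit

open Groth.Agent Groth.Agent.Sga3B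

theorem isSepClosed_of_ringEquiv {k k' : Type*} [Field k] [Field k'] [IsSepClosed k] (φ : k ≃+* k') :
    IsSepClosed k' := by
  refine IsSepClosed.of_exists_root _ fun p _ hirr hsep => ?_
  obtain ⟨x, hx⟩ := IsSepClosed.exists_root (p.map (φ.symm : k' →+* k))
    (by rw [Polynomial.degree_map]; exact hirr.degree_pos.ne') (hsep.map)
  refine ⟨φ x, ?_⟩
  have h1 : (φ.symm : k' →+* k) (p.eval (φ x)) = 0 := by
    rw [← Polynomial.eval_map_apply]
    simpa using hx
  exact (map_eq_zero_iff _ φ.symm.injective).mp h1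

instance isSepClosed_residueField (k : Type u) [Field k] [IsSepClosed k] :
    IsSepClosed (IsLocalRing.ResidueField k) :=
  isSepClosed_of_ringEquiv (RingEquiv.ofBijective (IsLocalRing.residue k)
    ⟨(IsLocalRing.residue k).injective, IsLocalRing.residue_surjective⟩)

/-- **Reductive groups over separably closed fields are split.** -/
theorem exists_splitRed (k : Type u) [Field k] [IsSepClosed k]
    (G : Over (Spec (CommRingCat.of k))) [GrpObj G] (hG : Red.IsReductive G) :
    Nonempty (Red.SplitRed G) := by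
  let s : Spec (CommRingCat.of k) := IsLocalRing.closedPoint k
  obtain ⟨B, _, v, hv, ⟨p, hp⟩, T, _, i, hi, r, hr⟩ :=
    Parab.SplitMax128.exists_split_maximalTorus hG s
  obtain ⟨t, ht, -⟩ := Pi1C.StrictHensPoint.exists_lift_of_etale v p k (𝟙 _) (by
    rw [hp]; rfl)
  obtain ⟨e⟩ := hr
  have h2 : Nonempty (Grp.mk (Red.bc t T) ≅ Grp.mk (Red.DS (Spec (CommRingCat.of k)) (Fin r → ℤ))) :=
    Sga3B.TorusAlgClosed.isSplitTorusWith_bc t ⟨e⟩
  have h3 := MaxTorBc636.isMaximalTorus_bc t (RedBcAny636.isReductive_bc v hG) hi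
  let f : Grp.mk (Red.bc t (Red.bc v G)) ≅ Grp.mk G :=
    ((Sga3B.BcIso.bcIdIso G).symm ≪≫ Sga3B.BcIso.bcCongrIso ht.symm G ≪≫
    Sga3B.BcIso.bcCompIso t v G).symm
  have h4 := IsomHa505.isMaximalTorus_comp_iso f h3
  have : Subsingleton (CommRing.Pic k) := inferInstance
  obtain ⟨D, -⟩ := RootFinal136.exists_splitRed hG _ h4 h2
  exact ⟨D⟩

end K499.SepSplit
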