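import Groth.Agent.AGF.K499.FinOrb2b
import Groth.Agent.AGF.K499.GrpTop
import Groth.Agent.AGF.K499.SepSplit
import Groth.Agent.AGF.K495.ParCell
import Groth.Agent.RedSub.H652.BruhatPt
import Mathlib.RingTheory.KrullDimension.Polynomial

/-!
# Finiteness of the number of `B × H` double cosets: the standard Borel subgroup
-/

set_option autoImplicit false
universe u v

open CategoryTheory MonoidalCategory CartesianMonoidalCategory MonObj GrpObj AlgebraicGeometry
  TopologicalSpace Topology Limits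

namespace K499.FinOrb3
open Groth.Agent.Books.AlgPts K499.PtTop K499.GrpTop K499.FinOrb
open Groth.Agent.Sga3B Groth.Agent.Sga3B.Cell Groth.Agent.Sga3B.Cell.Datum Groth.Agent.Sga3B.PinMod
  Groth.Agent.RedSub.H637.BruhatAbs Groth.Agent.RedSub.H637.BruhatDatum
  Groth.Agent.RedSub.H637.BruhatMain Groth.Agent.RedSub.H636.CellPts
  K495.ParAbs K495.ParDatum K495.ParCell Groth.Agent.RedSub.H652.BruhatPt

attribute [local instance] topo

variable {k : Type u} [Field k]

local notation "𝕆" => 𝟙_ (Over (Spec (CommRingCat.of k)))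

theorem ringKrullDim_ne_top (A : Type u) [CommRing A] [Algebra k A] [Algebra.FiniteType k A] :
    ringKrullDim A ≠ ⊤ := by
  obtain ⟨n, f, hf⟩ := Algebra.FiniteType.iff_quotient_mvPolynomial''.1
    (inferInstance : Algebra.FiniteType k A)
  intro h
  have h1 := ringKrullDim_le_of_surjective (f : MvPolynomial (Fin n) k →+* A) hf
  rw [h, MvPolynomial.ringKrullDim_of_isNoetherianRing, ringKrullDim_eq_zero_of_field] at h1
  simp at h1
  have : (((n : ℕ) : ℕ∞) : WithBot ℕ∞) < ⊤ := WithBot.coe_lt_coe.2 (ENat.natCast_lt_top n)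
  exact this.ne h1

variable {G : Over (Spec (CommRingCat.of k))} [GrpObj G] (c : Chart G (𝟙 (Spec (CommRingCat.of k))))


lemma key1 {A : Type u} [CommRing A] (φ : A →+* k) {X : Scheme.{u}}
    (p : Spec (CommRingCat.of A) ⟶ X) (w : Spec (CommRingCat.of k)) :
    (Spec.map (CommRingCat.ofHom φ) ≫ p) w = p (PrimeSpectrum.comap φ (⊥ : PrimeSpectrum k)) := by
  have hw : w = (⊥ : PrimeSpectrum k) := Subsingleton.elim (α := PrimeSpectrum k) _ _
  rw [hw]
  exact Scheme.Hom.comp_apply _ _ _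

/-- points of the chart and rational points -/
noncomputable def ee : Pt k c.A k →* (𝕆 ⟶ G) :=
  MonoidHom.mk' (fun g => (unitIso k).hom ≫ c.pts k g) (fun g g' => by rw [map_mul, MonObj.comp_mul])

lemma ee_apply (g : Pt k c.A k) : ee c g = (unitIso k).hom ≫ c.pts k g := rfl

lemma ee_injective : Function.Injective (ee c) := by
  intro g g' h
  rw [ee_apply, ee_apply, cancel_epi] at h
  exact (c.pts k).injective h

lemma ee_surjective : Function.Surjective (ee c) := by
  intro x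
  refine ⟨(c.pts k).symm ((unitIso k).inv ≫ x), ?_⟩
  rw [ee_apply, MulEquiv.apply_symm_apply, Iso.hom_inv_id_assoc]

/-- the point of `Spec A` defined by a point of the chart -/
def spt (g : Pt k c.A k) : PrimeSpectrum c.A := PrimeSpectrum.comap (g.hom : c.A →+* k) ⊥

lemma mem_zeroLocus_spt (g : Pt k c.A k) (I : Set c.A) :
    spt c g ∈ PrimeSpectrum.zeroLocus I ↔ ∀ f ∈ I, g.hom f = 0 := by
  rw [PrimeSpectrum.mem_zeroLocus]
  constructor
  · intro h f hf
    have h4 : f ∈ (spt c g).asIdeal := h hf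
    rw [spt, PrimeSpectrum.comap_asIdeal, Ideal.mem_comap] at h4
    simpa using h4
  · intro h f hf
    change f ∈ (spt c g).asIdeal
    rw [spt, PrimeSpectrum.comap_asIdeal, Ideal.mem_comap]
    have : (g.hom : c.A →+* k) f = 0 := h f hf
    rw [this]
    exact Ideal.zero_mem _

lemma pt_ee (g : Pt k c.A k) : pt (ee c g) = c.p (spt c g) := by
  rw [ee_apply, pt_comp, c.pts_left]
  exact key1 _ _ _
/-- closed sets are given by equations -/
theorem exists_eqns {F : Set (𝕆 ⟶ G)} (hF : IsClosed F) :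
    ∃ I : Set c.A, ∀ g : Pt k c.A k, ee c g ∈ F ↔ ∀ f ∈ I, g.hom f = 0 := by
  obtain ⟨C', hC', rfl⟩ := isClosed_iff.1 hF
  obtain ⟨I, hI⟩ := (PrimeSpectrum.isClosed_iff_zeroLocus _).1
    (hC'.preimage c.p.continuous)
  refine ⟨I, fun g => ?_⟩
  rw [← mem_zeroLocus_spt, ← hI, Set.mem_preimage, pt_ee]
  rfl

/-- the intersection of a root group with a closed set -/
theorem finite_inter_uu (D : Red.SplitRed G) (a : D.idx) {F : Set (𝕆 ⟶ G)} (hF : IsClosed F)
    (hne : ¬ (Usub (c.datum D) k a : Set (Pt k c.A k)) ⊆ ee c ⁻¹' F) :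
    ((Usub (c.datum D) k a : Set (Pt k c.A k)) ∩ ee c ⁻¹' F).Finite := by
  classical
  obtain ⟨I, hI⟩ := exists_eqns c hF
  have key : ∀ (x : k) (f : c.A), ((c.datum D).uu a k x).hom f =
      (((c.datum D).uu a (Polynomial k) Polynomial.X).hom f).eval x := by
    intro x f
    have h1 := (c.datum D).uu_nat a (Polynomial.aeval x : Polynomial k →ₐ[k] k) Polynomial.X
    rw [Polynomial.aeval_X] at h1
    rw [← h1, Pt.map_hom_apply, Polynomial.coe_aeval_eq_eval]
  obtain ⟨g, ⟨x, rfl⟩, hx⟩ := Set.not_subset.1 hne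
  rw [Set.mem_preimage, hI] at hx
  push Not at hx
  obtain ⟨f, hf, hfx⟩ := hx
  rw [key] at hfx
  have hP : ((c.datum D).uu a (Polynomial k) Polynomial.X).hom f ≠ 0 := by
    intro h
    rw [h, Polynomial.eval_zero] at hfx
    exact hfx rfl
  refine ((((c.datum D).uu a (Polynomial k) Polynomial.X).hom f).roots.toFinset.finite_toSet.image
    ((c.datum D).uu a k)).subset ?_
  rintro _ ⟨⟨y, rfl⟩, hy⟩
  rw [Set.mem_preimage, hI] at hy
  refine ⟨y, ?_, rfl⟩
  have h2 := hy f hf
  rw [key] at h2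
  rw [Finset.mem_coe, Multiset.mem_toFinset, Polynomial.mem_roots hP]
  exact h2

theorem infinite_uu [Infinite k] (D : Red.SplitRed G) (a : D.idx) :
    (Usub (c.datum D) k a : Set (Pt k c.A k)).Infinite :=
  Set.infinite_range_of_injective ((c.datum D).uu_inj a)

/-- the rational points of a subgroup scheme -/
def bsub {B : Over (Spec (CommRingCat.of k))} [GrpObj B] (iB : B ⟶ G) [IsMonHom iB] :
    Subgroup (𝕆 ⟶ G) where
  carrier := {g | ∃ y : 𝕆 ⟶ B, y ≫ iB = g}
  one_mem' := ⟨1, MonObj.one_comp _⟩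
  mul_mem' := by
    rintro _ _ ⟨y, rfl⟩ ⟨y', rfl⟩
    exact ⟨y * y', MonObj.mul_comp _ _ _⟩
  inv_mem' := by
    rintro _ ⟨y, rfl⟩
    exact ⟨y⁻¹, GrpObj.inv_comp _ _⟩

lemma mem_bsub {B : Over (Spec (CommRingCat.of k))} [GrpObj B] (iB : B ⟶ G) [IsMonHom iB]
    {g : 𝕆 ⟶ G} : g ∈ bsub iB ↔ ∃ y : 𝕆 ⟶ B, y ≫ iB = g := Iff.rfl

lemma mem_qsub_iff {B : Over (Spec (CommRingCat.of k))} [GrpObj B] (iB : B ⟶ G) [IsMonHom iB]
    (g : Pt k c.A k) : g ∈ qsub c iB k ↔ ee c g ∈ bsub iB := by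
  rw [mem_qsub, mem_bsub, ee_apply]
  constructor
  · rintro ⟨y, hy⟩
    exact ⟨(unitIso k).hom ≫ y, by rw [Category.assoc, hy]⟩
  · rintro ⟨y, hy⟩
    exact ⟨(unitIso k).inv ≫ y, by rw [Category.assoc, hy, Iso.inv_hom_id_assoc]⟩

variable [IsAlgClosed k]

lemma isClosed_bsub {B : Over (Spec (CommRingCat.of k))} [GrpObj B] (iB : B ⟶ G) [IsMonHom iB]
    [IsClosedImmersion iB.left] [LocallyOfFiniteType G.hom] :
    IsClosed (bsub iB : Set (𝕆 ⟶ G)) := by
  have hB : LocallyOfFiniteType B.hom := by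
    rw [← Over.w iB]
    infer_instance
  have h1 := isClosedMap_comp iB iB.left.isClosedMap _ isClosed_univ
  rwa [Set.image_univ] at h1

lemma isIrreducible_bsub {B : Over (Spec (CommRingCat.of k))} [GrpObj B] (iB : B ⟶ G) [IsMonHom iB]
    [LocallyOfFiniteType B.hom] [IrreducibleSpace B.left] :
    IsIrreducible (bsub iB : Set (𝕆 ⟶ G)) := by
  have h1 := (isIrreducible_univ (X := B)).image (fun x : 𝕆 ⟶ B => x ≫ iB)
    (continuous_comp iB).continuousOn
  rwa [Set.image_univ] at h1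

/-- **Finiteness of the number of double cosets: standard Borel subgroup.** -/
theorem exists_finset_std (D : Red.SplitRed G) (b : D.P.Base)
    {B : Over (Spec (CommRingCat.of k))} [GrpObj B] (iB : B ⟶ G) [IsMonHom iB]
    [IsClosedImmersion iB.left] [IrreducibleSpace B.left]
    (tB' : D.T ⟶ B) (htB : tB' ≫ iB = D.i)
    (hBroots : ∀ a : D.idx, (∃ v : Red.Ga (Spec (CommRingCat.of k)) ⟶ B, v ≫ iB = D.u a) ↔
      a ∈ RedSub.posRoots D.P b)
    {Q : Over (Spec (CommRingCat.of k))} [IsProper Q.hom] (q : G ⟶ Q)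
    (hq : RedSub.IsQuotient iB q) [IrreducibleSpace G.left]
    (H : Subgroup (𝕆 ⟶ G)) (hH : IsClosed (H : Set (𝕆 ⟶ G))) (z₀ : 𝕆 ⟶ G)
    (hopen : IsOpen (FinOrb.D (bsub iB) H z₀)) :
    ∃ s : Finset (𝕆 ⟶ G), ∀ x : 𝕆 ⟶ G, ∃ z ∈ s, x ∈ FinOrb.D (bsub iB) H z := by
  classical
  have hGa : IsAffineHom G.hom := D.reductive.1
  have hGs : Smooth G.hom := D.reductive.2.1
  have hBl : LocallyOfFiniteType B.hom := by
    rw [← Over.w iB]
    infer_instance
  choose nr hnr using D.refl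
  obtain ⟨c⟩ := exists_chart G (𝟙 (Spec (CommRingCat.of k)))
  obtain ⟨E, hE, hT, hU, hneg, hn, hs, hsimple, hopp⟩ := exists_data D b hnr c
  have hbq : bor E = qsub c iB k := le_antisymm
    (bor_le_qsub D b iB tB' htB hBroots c E hT hU hneg)
    (qsub_le_bor D b hnr iB tB' htB hBroots c E hE hT hU hneg hn hsimple)
  have hmem : ∀ g : Pt k c.A k, g ∈ bor E ↔ ee c g ∈ bsub iB := fun g => by
    rw [hbq, mem_qsub_iff]
  have hnoeth : NoetherianSpace (𝕆 ⟶ G) := noetherianSpace
  have hinf : Infinite k := IsAlgClosed.instInfinite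
  have hdim : topologicalKrullDim (𝕆 ⟶ G) ≠ ⊤ := by
    intro htop
    have h1 := (isInducing_pt (X := G)).topologicalKrullDim_le
    rw [htop, top_le_iff] at h1
    have h2 : IsIso c.p := c.isPullback.isIso_fst_of_isIso
    have h3 := IsHomeomorph.topologicalKrullDim_eq _ (TopCat.homeoOfIso (asIso c.p.base)).isHomeomorph
    have h4 : topologicalKrullDim (PrimeSpectrum c.A) = ⊤ := h3.trans h1
    rw [PrimeSpectrum.topologicalKrullDim_eq_ringKrullDim] at h4
    have hft : Algebra.FiniteType k c.A := c.finiteType D.reductive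
    exact ringKrullDim_ne_top (k := k) c.A h4
  refine FinOrb2.main' (ee c) (ee_injective c) (ee_surjective c) continuous_mul_left
    continuous_mul_right continuous_inv isIrreducible_univ hdim
    (fun B₁ H₁ h1 h2 h3 h4 z => exists_open_D h1 h2 h3 h4 z) hE hmem (isClosed_bsub iB)
    (isIrreducible_bsub iB) ?_ ?_ ?_ H hH hopen
  · intro a F hF hne
    rw [hU] at hne ⊢
    exact finite_inter_uu c D a hF hne
  · intro a
    rw [hU]
    exact infinite_uu c D a
  · intro P hP hBP Y hY hBY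
    exact isClosed_mul iB q hq hP (fun b => hBP ⟨b, rfl⟩) hY fun b y hy => hBY _ ⟨b, rfl⟩ y hy

end K499.FinOrb3
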