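import Groth.Agent.Flat2F.SuppTrdeg
import Groth.Agent.Flat2D.RelDimClosure2
import Groth.Agent.Sga2lef.H98.Dim
import Mathlib.AlgebraicGeometry.Morphisms.Flat

/-!
# Maximal points of preimages under flat morphisms: relative transcendence degrees
-/

set_option autoImplicit false
universe u

namespace K499.FlatGen

open AlgebraicGeometry CategoryTheory Cardinal TopologicalSpace Topology
open Groth.Agent.CycB Groth.Agent.CycB.TrdegAlg Groth.Agent.CycB.RelDim Groth.Agent.CycB.LocQuot
open Groth.Agent.Flat2F Groth.Agent.Flat2F.SuppTrdeg Groth.Agent.Flat2D.RelDimClosure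

variable {X S : Scheme.{u}}

/-- Generizations of large relative transcendence degree at a point of flatness. -/
theorem exists_generization (f : X ⟶ S) (x : X) (hfl : (f.stalkMap x).hom.Flat)
    (η : S) (hη : η ⤳ f x) (n : ℕ) (hn : (n : Cardinal.{u}) ≤ rtd f x) :
    ∃ ξ : X, ξ ⤳ x ∧ f ξ = η ∧ (n : Cardinal.{u}) ≤ rtd f ξ := by
  algebraize [(f.stalkMap x).hom]
  have : IsLocalHom (algebraMap (S.presheaf.stalk (f x)) (X.presheaf.stalk x)) :=
    inferInstanceAs (IsLocalHom (f.stalkMap x).hom)
  obtain ⟨y, hy⟩ : ∃ y : ULift.{u} (Fin n) → X.presheaf.stalk x,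
      AlgebraicIndependent (IsLocalRing.ResidueField (S.presheaf.stalk (f x)))
        (fun i ↦ IsLocalRing.residue (X.presheaf.stalk x) (y i)) := by
    let _ : Algebra (S.residueField (f x)) (X.residueField x) := (f.residueFieldMap x).hom.toAlgebra
    have hn' : (n : Cardinal.{u}) ≤ Algebra.trdeg (S.residueField (f x)) (X.residueField x) := hn
    obtain ⟨B, hB⟩ := exists_isTranscendenceBasis (S.residueField (f x)) (X.residueField x)
    have h1 : (n : Cardinal.{u}) = #(ULift.{u} (Fin n)) := by simp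
    rw [← hB.cardinalMk_eq_trdeg, h1, Cardinal.le_def] at hn'
    obtain ⟨e⟩ := hn'
    choose y hy using fun i ↦ IsLocalRing.residue_surjective (R := X.presheaf.stalk x)
      ((e i : B) : X.residueField x)
    refine ⟨y, ?_⟩
    have h2 : AlgebraicIndependent (S.residueField (f x))
        (fun i ↦ ((e i : B) : X.residueField x)) := hB.1.comp e e.injective
    have h3 : (fun i ↦ IsLocalRing.residue (X.presheaf.stalk x) (y i)) =
        (fun i ↦ ((e i : B) : X.residueField x)) := funext hy
    rw [h3]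
    exact h2
  obtain ⟨Q, hQ1, hQ2, hQ3⟩ := FlatTrdeg.exists_prime (M := X.presheaf.stalk x) y hy
    (primeOf hη).asIdeal
  have hsp : ptOf Q ⤳ x := ptOf_specializes Q
  have hfη : f (ptOf Q) = η := by
    have h1 := Scheme.SpecMap_stalkMap_fromSpecStalk f (x := x)
    have h2 : S.fromSpecStalk (f x) (Spec.map (f.stalkMap x) Q) = f (X.fromSpecStalk x Q) := by
      rw [← Scheme.Hom.comp_apply, h1, Scheme.Hom.comp_apply]
    have h3 : Spec.map (f.stalkMap x) Q = primeOf hη := PrimeSpectrum.ext hQ2
    rw [h3, fromSpecStalk_primeOf hη] at h2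
    exact h2.symm
  refine ⟨ptOf Q, hsp, hfη, ?_⟩
  have hsp' : f (ptOf Q) ⤳ f x := hsp.map f.continuous
  have hcomm : (f.residueFieldMap (ptOf Q)).hom.comp (Cyc.specMap (f x) (f (ptOf Q)) hsp') =
      (Cyc.specMap x (ptOf Q) hsp).comp (f.stalkMap x).hom :=
    RingHom.ext fun a ↦ DivNat.residueFieldMap_specMap f x (ptOf Q) hsp a
  have hle : RingHom.ker (Cyc.specMap (f x) (f (ptOf Q)) hsp') ≤
      (RingHom.ker (Cyc.specMap x (ptOf Q) hsp)).comap (f.stalkMap x).hom := by
    intro a ha
    rw [Ideal.mem_comap, RingHom.mem_ker, ← RingHom.comp_apply, ← hcomm, RingHom.comp_apply,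
      RingHom.mem_ker.mp ha, map_zero]
  have hp : RingHom.ker (Cyc.specMap (f x) (f (ptOf Q)) hsp') = (primeOf hη).asIdeal := by
    rw [← primeOf_asIdeal]
    congr 1
    rw [primeOf_inj]
    exact hfη
  have hq : RingHom.ker (Cyc.specMap x (ptOf Q) hsp) = Q.asIdeal := by
    rw [← primeOf_asIdeal, primeOf_ptOf]
  rw [rtd, trd_eq_trd_quotientMap (f.stalkMap x).hom _ _ _ hcomm (fracGen_specMap _ _ hsp')
    (fracGen_specMap _ _ hsp) _ rfl _ rfl hle]
  have h1 : (n : Cardinal.{u}) = #(ULift.{u} (Fin n)) := by simp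
  rw [h1]
  let _ := (Ideal.quotientMap (RingHom.ker (Cyc.specMap x (ptOf Q) hsp))
    (f.stalkMap x).hom hle).toAlgebra
  have hind : AlgebraicIndependent (S.presheaf.stalk (f x) ⧸
      RingHom.ker (Cyc.specMap (f x) (f (ptOf Q)) hsp'))
      (fun i ↦ Ideal.Quotient.mk (RingHom.ker (Cyc.specMap x (ptOf Q) hsp)) (y i)) := by
    rw [algebraicIndependent_iff]
    intro G' hG'
    obtain ⟨G, rfl⟩ := MvPolynomial.map_surjective (Ideal.Quotient.mk
      (RingHom.ker (Cyc.specMap (f x) (f (ptOf Q)) hsp'))) Ideal.Quotient.mk_surjective G'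
    have h2 : MvPolynomial.aeval (fun i ↦ Ideal.Quotient.mk
        (RingHom.ker (Cyc.specMap x (ptOf Q) hsp)) (y i)) (MvPolynomial.map (Ideal.Quotient.mk
        (RingHom.ker (Cyc.specMap (f x) (f (ptOf Q)) hsp'))) G) =
        Ideal.Quotient.mk (RingHom.ker (Cyc.specMap x (ptOf Q) hsp))
          (MvPolynomial.aeval y G) := by
      rw [MvPolynomial.aeval_def, MvPolynomial.eval₂_map, MvPolynomial.aeval_def,
        ← MvPolynomial.coe_eval₂Hom, ← MvPolynomial.coe_eval₂Hom, ← RingHom.comp_apply]
      congr 1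
      ext a
      · simp only [MvPolynomial.coe_eval₂Hom, RingHom.coe_comp, Function.comp_apply,
          MvPolynomial.eval₂_C]
        rfl
      · simp
    rw [h2, Ideal.Quotient.eq_zero_iff_mem, hq] at hG'
    ext I
    rw [MvPolynomial.coeff_map, MvPolynomial.coeff_zero, Ideal.Quotient.eq_zero_iff_mem, hp]
    exact hQ3 G hG' I
  exact hind.cardinalMk_le_trdeg

/-- `c` is a maximal point of the subset `Z`. -/
def Gen {T : Type*} [TopologicalSpace T] (Z : Set T) (c : T) : Prop :=
  c ∈ Z ∧ ∀ z ∈ Z, z ⤳ c → z = c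

/-- The relative transcendence degree at a maximal point of its fibre, at which the morphism is
flat, is the one at the generic point of the source. -/
theorem rtd_eq (f : X ⟶ S) [LocallyOfFiniteType f] (w : X) (hw : ∀ x : X, w ⤳ x) (c : X)
    (hfl : (f.stalkMap c).hom.Flat) (hc : ∀ x : X, x ⤳ c → f x = f c → x = c) :
    rtd f c = rtd f w := by
  apply le_antisymm
  · obtain ⟨n, hn⟩ := Cardinal.lt_aleph0.1 (rtd_lt_aleph0 f c)
    obtain ⟨ξ, h1, h2, h3⟩ := exists_generization f c hfl (f w) ((hw c).map f.continuous) n hn.ge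
    rw [hn]
    refine h3.trans ?_
    rcases eq_or_ne w ξ with rfl | hne
    · exact le_rfl
    · exact (rtd_lt_of_specializes f (hw ξ) hne h2.symm).le
  · refine rtd_le_of_closure_mem f w c (specializes_iff_mem_closure.1 (hw c)) ?_
    refine ⟨isIrreducible_singleton.closure, fun A hA hle => ?_⟩
    have hq : QuasiSober (Fib f w (f c)) := by
      have : Fib f w (f c) = f ⁻¹' {f c} := by
        ext x
        simp only [Set.mem_inter_iff, Set.mem_preimage, Set.mem_singleton_iff,
          and_iff_right_iff_imp]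
        exact fun _ => specializes_iff_mem_closure.1 (hw x)
      rw [this]
      exact (f.fiberHomeo (f c)).symm.isOpenEmbedding.quasiSober
    obtain ⟨v, hv⟩ := QuasiSober.sober hA.closure isClosed_closure
    have hmem : (⟨c, specializes_iff_mem_closure.1 (hw c), rfl⟩ : Fib f w (f c)) ∈ closure A :=
      subset_closure (hle (subset_closure rfl))
    have hvz := hv.specializes hmem
    have hvc : v.1 = c := hc v.1 (IsInducing.subtypeVal.specializes_iff.2 hvz) v.2.2
    have hvc' : v = (⟨c, specializes_iff_mem_closure.1 (hw c), rfl⟩ : Fib f w (f c)) :=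
      Subtype.ext hvc
    rw [← hvc', hv.def]
    exact subset_closure

end K499.FlatGen
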