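import Groth.Agent.AGF.K499.DimGen
import Groth.Agent.AGF.K499.ActPts
import Groth.Agent.Books.BorelOrb2

/-!
# Generic translates: dimensions of intersections inside an orbit
-/

set_option autoImplicit false
set_option linter.unusedSectionVars false
universe u

namespace K499.Kleiman

open CategoryTheory CategoryTheory.Limits MonoidalCategory CartesianMonoidalCategory MonObj GrpObj
  AlgebraicGeometry TopologicalSpace Topology
open Groth.Agent.CycB.RelDim
open Groth.Agent.Books.AlgPts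
open K499.FlatGen K499.DimGen K499.ActPts
open Groth.Agent.Books.BorelOrb2 (Y p inc p_inc flat_p isIntegral_Y quasiCompact_p
  quasiCompact_orbitMap locallyOfFiniteType_p)

variable {k : Type u} [Field k] [IsAlgClosed k] {G X : Over (Spec (CommRingCat.of k))} [GrpObj G]
  (a : AlgGrp.Action G X)

section orbit

variable [IsIntegral G.left] [IsSeparated G.hom] [LocallyOfFiniteType G.hom] [QuasiCompact G.hom]
  [IsSeparated X.hom] [LocallyOfFiniteType X.hom] [QuasiCompact X.hom]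

/-- The orbit of a rational point. -/
abbrev orb (x : 𝟙_ (Over (Spec (CommRingCat.of k))) ⟶ X) : Set X.left :=
  Set.range (a.orbitMap x).left

theorem range_inc (x : 𝟙_ (Over (Spec (CommRingCat.of k))) ⟶ X) :
    Set.range (inc a x) = closure (orb a x) := by
  have := quasiCompact_orbitMap a x
  rw [Scheme.IdealSheafData.range_subschemeι, Scheme.Hom.support_ker]

theorem gen_pre (x : 𝟙_ (Over (Spec (CommRingCat.of k))) ⟶ X) {Z : Set X.left} {c : G.left}
    (hc : Gen ((a.orbitMap x).left ⁻¹' Z) c) :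
    Gen (Z ∩ closure (orb a x)) ((a.orbitMap x).left c) ∧
      rtd G.hom c = rtd X.hom ((a.orbitMap x).left c) + rtd (p a x) (genericPoint G.left) := by
  have hflat := flat_p a x
  have hft := locallyOfFiniteType_p a x
  have h1 : ∀ g : G.left, inc a x (p a x g) = (a.orbitMap x).left g := by
    intro g
    rw [← Scheme.Hom.comp_apply, p_inc]
  have hc' : Gen (p a x ⁻¹' (inc a x ⁻¹' Z)) c := by
    convert hc using 1
    ext g
    rw [Set.mem_preimage, Set.mem_preimage, Set.mem_preimage, h1]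
  constructor
  · have h2 := gen_map (p a x) hc'
    refine ⟨⟨hc.1, subset_closure ⟨c, rfl⟩⟩, ?_⟩
    rintro z ⟨hz1, hz2⟩ hz3
    rw [← range_inc] at hz2
    obtain ⟨z', rfl⟩ := hz2
    rw [← h1] at hz3 ⊢
    rw [h2.2 z' hz1 ((inc a x).isClosedEmbedding.isInducing.specializes_iff.1 hz3)]
  · have h2 : rtd (p a x ≫ inc a x ≫ X.hom) c = rtd G.hom c := by
      congr 1
      rw [← Category.assoc, p_inc, Over.w]
    rw [← h2, rtd_comp, rtd_comp, rtd_eq_zero_of_isPreimmersion (inc a x), add_zero, h1,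
      rtd_of_gen_preimage (p a x) hc' (genericPoint G.left) genericPoint_specializes]

theorem rtd_genericPoint (x : 𝟙_ (Over (Spec (CommRingCat.of k))) ⟶ X) :
    rtd G.hom (genericPoint G.left) = rtd X.hom ((a.orbitMap x).left (genericPoint G.left)) +
      rtd (p a x) (genericPoint G.left) :=
  (gen_pre a x (Z := Set.univ) (c := genericPoint G.left) ⟨trivial, fun z _ h =>
    (h.antisymm (genericPoint_specializes z)).eq⟩).2

theorem exists_gen_pre (x : 𝟙_ (Over (Spec (CommRingCat.of k))) ⟶ X) {Z : Set X.left}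
    (hZ : IsClosed Z) {y : X.left} (hy : y ∈ orb a x) (hg : Gen (Z ∩ closure (orb a x)) y) :
    ∃ c, Gen ((a.orbitMap x).left ⁻¹' Z) c ∧ (a.orbitMap x).left c = y := by
  obtain ⟨c₀, rfl⟩ := hy
  obtain ⟨c, h1, h2⟩ := exists_gen (hZ.preimage (a.orbitMap x).left.continuous)
    (z := c₀) hg.1.1
  exact ⟨c, h1, hg.2 _ ⟨h1.1, subset_closure ⟨c, rfl⟩⟩ (h2.map (a.orbitMap x).left.continuous)⟩

end orbit

section mu

/-- `(a, b) ↦ b a⁻¹`. -/
noncomputable abbrev mu (G : Over (Spec (CommRingCat.of k))) [GrpObj G] : G ⊗ G ⟶ G :=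
  snd G G * (fst G G)⁻¹

/-- `a ↦ (a, σ a)`. -/
noncomputable abbrev kap (σ : 𝟙_ (Over (Spec (CommRingCat.of k))) ⟶ G) : G ⟶ G ⊗ G :=
  lift (𝟙 G) ((toUnit G ≫ σ) * 𝟙 G)

omit [IsAlgClosed k] in
theorem kap_mu (σ : 𝟙_ (Over (Spec (CommRingCat.of k))) ⟶ G) :
    kap σ ≫ mu G = toUnit G ≫ σ := by
  rw [MonObj.comp_mul, GrpObj.comp_inv, lift_fst, lift_snd, mul_inv_cancel_right]

omit [IsAlgClosed k] in
theorem isPullback_kap (σ : 𝟙_ (Over (Spec (CommRingCat.of k))) ⟶ G) :
    IsPullback (kap σ) (toUnit G) (mu G) σ := by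
  refine IsPullback.of_isLimit (c := PullbackCone.mk (kap σ) (toUnit G) (kap_mu σ)) ?_
  refine PullbackCone.IsLimit.mk _ (fun s => s.fst ≫ fst G G) (fun s => ?_)
    (fun s => toUnit_unique _ _) (fun s m h1 _ => ?_)
  · have h := s.condition
    have e : s.snd = toUnit _ := toUnit_unique _ _
    rw [MonObj.comp_mul, GrpObj.comp_inv, e] at h
    apply CartesianMonoidalCategory.hom_ext
    · rw [Category.assoc, lift_fst, Category.comp_id]
    · rw [Category.assoc, lift_snd, MonObj.comp_mul, Category.comp_id]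
      have e' : (s.fst ≫ fst G G) ≫ toUnit G = toUnit _ := toUnit_unique _ _
      rw [← Category.assoc, e', ← h, inv_mul_cancel_right]
  · rw [← h1, Category.assoc, lift_fst, Category.comp_id]

variable [IsSeparated G.hom]

instance isClosedImmersion_kap (σ : 𝟙_ (Over (Spec (CommRingCat.of k))) ⟶ G) :
    IsClosedImmersion (kap σ).left := by
  have h : (kap σ).left ≫ (fst G G).left = 𝟙 _ := by
    rw [← Over.comp_left, lift_fst]; rfl
  have : IsSeparated (fst G G).left :=
    inferInstanceAs (IsSeparated (pullback.fst G.hom G.hom))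
  have h2 : IsClosedImmersion ((kap σ).left ≫ (fst G G).left) := by rw [h]; infer_instance
  exact IsClosedImmersion.of_comp (kap σ).left (fst G G).left

theorem range_kap (σ : 𝟙_ (Over (Spec (CommRingCat.of k))) ⟶ G) :
    Set.range (kap σ).left = (mu G).left ⁻¹' {pt σ} := by
  have h := (isPullback_kap σ).map (Over.forget _)
  ext z
  constructor
  · rintro ⟨g, rfl⟩
    rw [Set.mem_preimage, Set.mem_singleton_iff, ← Scheme.Hom.comp_apply, ← Over.comp_left,
      kap_mu]
    rw [Over.comp_left, Scheme.Hom.comp_apply, pt]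
    congr 1
    exact Subsingleton.elim (α := PrimeSpectrum k) _ _
  · intro hz
    obtain ⟨g, hg, -⟩ := Scheme.exists_preimage_of_isPullback h z (IsLocalRing.closedPoint k) hz
    exact ⟨g, hg⟩

theorem gen_kap (σ : 𝟙_ (Over (Spec (CommRingCat.of k))) ⟶ G)
    (x : 𝟙_ (Over (Spec (CommRingCat.of k))) ⟶ X) {Y₁ Y₂ : Set X.left} {c : G.left}
    (hc : Gen ((a.orbitMap x).left ⁻¹' (Y₁ ∩ (tr a σ).left ⁻¹' Y₂)) c) :
    Gen (((fst G G).left ⁻¹' ((a.orbitMap x).left ⁻¹' Y₁) ∩
      (snd G G).left ⁻¹' ((a.orbitMap x).left ⁻¹' Y₂)) ∩ (mu G).left ⁻¹' {pt σ})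
      ((kap σ).left c) := by
  have h1 : ∀ g : G.left, (fst G G).left ((kap σ).left g) = g := by
    intro g
    rw [← Scheme.Hom.comp_apply, ← Over.comp_left, lift_fst]
    rfl
  have h2 : ∀ g : G.left, (a.orbitMap x).left ((snd G G).left ((kap σ).left g)) =
      (tr a σ).left ((a.orbitMap x).left g) := by
    intro g
    rw [← Scheme.Hom.comp_apply, ← Scheme.Hom.comp_apply, ← Scheme.Hom.comp_apply,
      ← Over.comp_left, ← Over.comp_left, ← Over.comp_left, lift_snd_assoc, orbitMap_tr]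
  have h3 : ∀ g : G.left, (kap σ).left g ∈ ((fst G G).left ⁻¹' ((a.orbitMap x).left ⁻¹' Y₁) ∩
      (snd G G).left ⁻¹' ((a.orbitMap x).left ⁻¹' Y₂)) ↔
      g ∈ (a.orbitMap x).left ⁻¹' (Y₁ ∩ (tr a σ).left ⁻¹' Y₂) := by
    intro g
    rw [Set.mem_inter_iff, Set.mem_preimage, Set.mem_preimage, Set.mem_preimage, Set.mem_preimage,
      h1, h2]
    rfl
  refine ⟨⟨(h3 c).2 hc.1, ?_⟩, ?_⟩
  · rw [← range_kap]
    exact ⟨c, rfl⟩
  · rintro z ⟨hz1, hz2⟩ hz3
    rw [← range_kap] at hz2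
    obtain ⟨g, rfl⟩ := hz2
    rw [hc.2 g ((h3 g).1 hz1) ((kap σ).left.isClosedEmbedding.isInducing.specializes_iff.1 hz3)]

theorem rtd_pt [LocallyOfFiniteType G.hom] (σ : 𝟙_ (Over (Spec (CommRingCat.of k))) ⟶ G) :
    rtd G.hom (pt σ) = 0 := by
  have h : rtd (σ.left ≫ G.hom) (IsLocalRing.closedPoint k) = 0 := by
    rw [Over.w]
    have : IsPreimmersion (𝟙_ (Over (Spec (CommRingCat.of k)))).hom :=
      inferInstanceAs (IsPreimmersion (𝟙 _))
    exact rtd_eq_zero_of_isPreimmersion _ _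
  rw [rtd_comp] at h
  exact (add_eq_zero.1 h).1

end mu

section main

variable [IsIntegral G.left] [IsSeparated G.hom] [LocallyOfFiniteType G.hom] [QuasiCompact G.hom]
  [IsSeparated X.hom] [LocallyOfFiniteType X.hom] [QuasiCompact X.hom]

theorem exists_open (x : 𝟙_ (Over (Spec (CommRingCat.of k))) ⟶ X) {Y₁ Y₂ : Set X.left}
    (h₁ : IsClosed Y₁) (h₂ : IsClosed Y₂) :
    ∃ V : G.left.Opens, (V : Set G.left).Nonempty ∧
      ∀ σ : 𝟙_ (Over (Spec (CommRingCat.of k))) ⟶ G, pt σ ∈ V → ∀ y ∈ orb a x,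
        Gen ((Y₁ ∩ (tr a σ).left ⁻¹' Y₂) ∩ closure (orb a x)) y →
        ∃ y₁ y₂, Gen (Y₁ ∩ closure (orb a x)) y₁ ∧ Gen (Y₂ ∩ closure (orb a x)) y₂ ∧
          rtd X.hom y₁ + rtd X.hom y₂ =
            rtd X.hom y + rtd X.hom ((a.orbitMap x).left (genericPoint G.left)) := by
  have hft1 : LocallyOfFiniteType (fst G G).left :=
    inferInstanceAs (LocallyOfFiniteType (pullback.fst G.hom G.hom))
  have hqc1 : QuasiCompact (fst G G).left :=
    inferInstanceAs (QuasiCompact (pullback.fst G.hom G.hom))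
  have hw1 : (fst G G).left ≫ G.hom = (G ⊗ G).hom := Over.w _
  have hft : LocallyOfFiniteType (G ⊗ G).hom := by rw [← hw1]; infer_instance
  have hqc : QuasiCompact (G ⊗ G).hom := by rw [← hw1]; infer_instance
  have hw2 : (mu G).left ≫ G.hom = (G ⊗ G).hom := Over.w _
  have hftm : LocallyOfFiniteType (mu G).left := by
    have : LocallyOfFiniteType ((mu G).left ≫ G.hom) := by rw [hw2]; exact hft
    exact locallyOfFiniteType_of_comp _ G.hom
  have hqcm : QuasiCompact (mu G).left := by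
    have : QuasiCompact ((mu G).left ≫ G.hom) := by rw [hw2]; exact hqc
    exact QuasiCompact.of_comp _ G.hom
  have hN : IsNoetherian (G ⊗ G).left := by
    have h1 : IsLocallyNoetherian (G ⊗ G).left :=
      LocallyOfFiniteType.isLocallyNoetherian (G ⊗ G).hom
    have h2 : CompactSpace (G ⊗ G).left :=
      HasAffineProperty.iff_of_isAffine (P := @QuasiCompact).mp hqc
    exact {}
  obtain ⟨V, hV, hV'⟩ := exists_open_gen_fibres (mu G).left
    (T := (fst G G).left ⁻¹' ((a.orbitMap x).left ⁻¹' Y₁) ∩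
      (snd G G).left ⁻¹' ((a.orbitMap x).left ⁻¹' Y₂))
    (((h₁.preimage (a.orbitMap x).left.continuous).preimage (fst G G).left.continuous).inter
      ((h₂.preimage (a.orbitMap x).left.continuous).preimage (snd G G).left.continuous))
  refine ⟨V, hV, fun σ hσ y hy hg => ?_⟩
  obtain ⟨c, hc, rfl⟩ := exists_gen_pre a x
    (h₁.inter (h₂.preimage (tr a σ).left.continuous)) hy hg
  have hk := gen_kap a σ x hc
  obtain ⟨t, ht1, ht2, ht3⟩ := hV' (pt σ) hσ _ hk
  obtain ⟨ha, hb, hab⟩ := gen_prod G.hom G.hom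
    (h₁.preimage (a.orbitMap x).left.continuous) (h₂.preimage (a.orbitMap x).left.continuous) t ht1
  obtain ⟨ha1, ha2⟩ := gen_pre a x ha
  obtain ⟨hb1, hb2⟩ := gen_pre a x hb
  refine ⟨_, _, ha1, hb1, ?_⟩
  have e1 := (gen_pre a x hc).2
  have e2 := rtd_genericPoint a x
  have e3 : rtd G.hom c = rtd (mu G).left ((kap σ).left c) := by
    have h1 : rtd ((kap σ).left ≫ (G ⊗ G).hom) c = rtd G.hom c := by
      congr 1
      exact Over.w _
    have h2 : (mu G).left ((kap σ).left c) = pt σ := hk.1.2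
    rw [← h1, rtd_comp, rtd_eq_zero_of_isPreimmersion (kap σ).left, add_zero, ← hw2, rtd_comp, h2,
      rtd_pt, zero_add]
  have e4 : rtd (G ⊗ G).hom t = rtd G.hom (genericPoint G.left) + rtd (mu G).left t := by
    rw [← hw2, rtd_comp, ht2]
  have e5 : rtd (G ⊗ G).hom t = rtd G.hom (pullback.fst G.hom G.hom t) +
      rtd G.hom (pullback.snd G.hom G.hom t) := hab
  obtain ⟨n1, hn1⟩ := Cardinal.lt_aleph0.1 (rtd_lt_aleph0 X.hom ((a.orbitMap x).left c))
  have hftp := locallyOfFiniteType_p a x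
  obtain ⟨n2, hn2⟩ := Cardinal.lt_aleph0.1 (rtd_lt_aleph0 (p a x) (genericPoint G.left))
  obtain ⟨n3, hn3⟩ := Cardinal.lt_aleph0.1 (rtd_lt_aleph0 X.hom
    ((a.orbitMap x).left (genericPoint G.left)))
  obtain ⟨n4, hn4⟩ := Cardinal.lt_aleph0.1 (rtd_lt_aleph0 X.hom
    ((a.orbitMap x).left (pullback.fst G.hom G.hom t)))
  obtain ⟨n5, hn5⟩ := Cardinal.lt_aleph0.1 (rtd_lt_aleph0 X.hom
    ((a.orbitMap x).left (pullback.snd G.hom G.hom t)))
  rw [ha2, hb2, e4, ← ht3, ← e3, e1, e2, hn1, hn2, hn3, hn4, hn5] at e5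
  rw [hn1, hn3, hn4, hn5]
  have e6 : n3 + n2 + (n1 + n2) = n4 + n2 + (n5 + n2) := by exact_mod_cast e5
  have e7 : n4 + n5 = n1 + n3 := by omega
  exact_mod_cast e7

end main

end K499.Kleiman
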