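import Groth.Agent.AGF.K499.Kleiman
import Mathlib.AlgebraicGeometry.Noetherian

/-!
# Generic translates, II: orbits of rational points
-/

set_option autoImplicit false
set_option linter.unusedSectionVars false
universe u

namespace K499.Kleiman

open CategoryTheory CategoryTheory.Limits MonoidalCategory CartesianMonoidalCategory MonObj GrpObj
  AlgebraicGeometry TopologicalSpace Topology
open Groth.Agent.CycB.RelDim
open Groth.Agent.Books.AlgPts
open K499.FlatGen K499.DimGen K499.ActPts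
open Groth.Agent.Books.BorelOrb2 (Y p inc p_inc flat_p isIntegral_Y quasiCompact_p
  quasiCompact_orbitMap locallyOfFiniteType_p)

variable {k : Type u} [Field k] [IsAlgClosed k] {G X : Over (Spec (CommRingCat.of k))} [GrpObj G]
  (a : AlgGrp.Action G X)

/-- Translation as a homeomorphism. -/
noncomputable def homeo (σ : 𝟙_ (Over (Spec (CommRingCat.of k))) ⟶ G) : X.left ≃ₜ X.left :=
  Scheme.homeoOfIso ((Over.forget _).mapIso (trIso a σ))

theorem homeo_apply (σ : 𝟙_ (Over (Spec (CommRingCat.of k))) ⟶ G) (z : X.left) :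
    homeo a σ z = (tr a σ).left z := rfl

theorem homeo_symm_apply (σ : 𝟙_ (Over (Spec (CommRingCat.of k))) ⟶ G) (z : X.left) :
    (homeo a σ).symm z = (tr a σ⁻¹).left z := rfl

theorem tr_mem_orb (σ : 𝟙_ (Over (Spec (CommRingCat.of k))) ⟶ G)
    (x : 𝟙_ (Over (Spec (CommRingCat.of k))) ⟶ X) {z : X.left} (hz : z ∈ orb a x) :
    (tr a σ).left z ∈ orb a x := by
  obtain ⟨g, rfl⟩ := hz
  rw [← Scheme.Hom.comp_apply, ← Over.comp_left, orbitMap_tr, Over.comp_left,
    Scheme.Hom.comp_apply]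
  exact ⟨_, rfl⟩

theorem image_orb (σ : 𝟙_ (Over (Spec (CommRingCat.of k))) ⟶ G)
    (x : 𝟙_ (Over (Spec (CommRingCat.of k))) ⟶ X) : homeo a σ '' orb a x = orb a x := by
  apply Set.Subset.antisymm
  · rintro _ ⟨z, hz, rfl⟩
    exact tr_mem_orb a σ x hz
  · intro z hz
    exact ⟨(homeo a σ).symm z, tr_mem_orb a σ⁻¹ x hz, (homeo a σ).apply_symm_apply z⟩

theorem image_closure_orb (σ : 𝟙_ (Over (Spec (CommRingCat.of k))) ⟶ G)
    (x : 𝟙_ (Over (Spec (CommRingCat.of k))) ⟶ X) :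
    homeo a σ '' closure (orb a x) = closure (orb a x) := by
  rw [(homeo a σ).image_closure, image_orb]

theorem tr_mem_closure (σ : 𝟙_ (Over (Spec (CommRingCat.of k))) ⟶ G)
    (x : 𝟙_ (Over (Spec (CommRingCat.of k))) ⟶ X) {z : X.left} (hz : z ∈ closure (orb a x)) :
    (tr a σ).left z ∈ closure (orb a x) := by
  rw [← image_closure_orb a σ x]
  exact ⟨z, hz, rfl⟩

theorem gen_translate (σ : 𝟙_ (Over (Spec (CommRingCat.of k))) ⟶ G)
    (x : 𝟙_ (Over (Spec (CommRingCat.of k))) ⟶ X) {Y₁ Y₂ : Set X.left} {y : X.left}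
    (hy : Gen (((tr a σ).left '' Y₁ ∩ Y₂) ∩ closure (orb a x)) y) :
    Gen ((Y₁ ∩ (tr a σ).left ⁻¹' Y₂) ∩ closure (orb a x)) ((tr a σ⁻¹).left y) := by
  have h := K499.DimGen.Gen.image (homeo a σ).symm hy
  convert h using 1
  swap
  · rfl
  have h1 : ∀ z, (tr a σ).left ((homeo a σ).symm z) = z := (homeo a σ).apply_symm_apply
  have h2 : ∀ z, (homeo a σ).symm ((tr a σ).left z) = z := (homeo a σ).symm_apply_apply
  ext z
  constructor
  · rintro ⟨⟨hz1, hz2⟩, hz3⟩
    exact ⟨(tr a σ).left z, ⟨⟨⟨z, hz1, rfl⟩, hz2⟩, tr_mem_closure a σ x hz3⟩, h2 z⟩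
  · rintro ⟨w, ⟨⟨⟨z', hz', rfl⟩, hw2⟩, hw3⟩, rfl⟩
    rw [h2]
    refine ⟨⟨hz', hw2⟩, ?_⟩
    rw [← h2 z']
    exact tr_mem_closure a σ⁻¹ x hw3

theorem rtd_tr (σ : 𝟙_ (Over (Spec (CommRingCat.of k))) ⟶ G) (z : X.left) :
    rtd X.hom ((tr a σ).left z) = rtd X.hom z := by
  have h : rtd ((tr a σ).left ≫ X.hom) z = rtd X.hom z := by
    congr 1
    exact Over.w _
  have : IsIso (tr a σ).left := inferInstanceAs (IsIso ((Over.forget _).mapIso (trIso a σ)).hom)
  rw [← h, rtd_comp, rtd_eq_zero_of_isPreimmersion (tr a σ).left, add_zero]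

section fin

variable [IsIntegral G.left] [IsSeparated G.hom] [LocallyOfFiniteType G.hom] [QuasiCompact G.hom]
  [IsSeparated X.hom] [LocallyOfFiniteType X.hom] [QuasiCompact X.hom]

omit [IsAlgClosed k] [IsSeparated G.hom] [LocallyOfFiniteType G.hom] [QuasiCompact G.hom]
  [IsSeparated X.hom] [LocallyOfFiniteType X.hom] [QuasiCompact X.hom] in
theorem closure_orb (x : 𝟙_ (Over (Spec (CommRingCat.of k))) ⟶ X) :
    closure (orb a x) = closure {(a.orbitMap x).left (genericPoint G.left)} := by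
  apply Set.Subset.antisymm
  · refine closure_minimal ?_ isClosed_closure
    rintro _ ⟨g, rfl⟩
    exact specializes_iff_mem_closure.1
      ((genericPoint_specializes g).map (a.orbitMap x).left.continuous)
  · exact closure_mono (Set.singleton_subset_iff.2 ⟨_, rfl⟩)

theorem isLocallyClosed_orb (x : 𝟙_ (Over (Spec (CommRingCat.of k))) ⟶ X) :
    ∃ U : Set X.left, IsOpen U ∧ orb a x = U ∩ closure (orb a x) := by
  have hflat := flat_p a x
  have hft := locallyOfFiniteType_p a x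
  have hN : IsLocallyNoetherian (Y a x) := LocallyOfFiniteType.isLocallyNoetherian (inc a x ≫ X.hom)
  have hfp : LocallyOfFinitePresentation (p a x) :=
    LocallyOfFinitePresentation.iff_locallyOfFiniteType.2 hft
  have h1 : IsOpen (Set.range (p a x)) :=
    (isOpenMap_of_generalizingMap (p a x) (Flat.generalizingMap (p a x))).isOpen_range
  obtain ⟨U, hU, hU'⟩ := (inc a x).isClosedEmbedding.isInducing.isOpen_iff.1 h1
  refine ⟨U, hU, ?_⟩
  rw [← range_inc]
  have h2 : orb a x = inc a x '' Set.range (p a x) := by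
    rw [← Set.range_comp]
    ext z
    simp only [Set.mem_range, Function.comp_apply, ← Scheme.Hom.comp_apply, p_inc]
  rw [h2, ← hU', Set.image_preimage_eq_inter_range]

theorem pt_mem_orb (x : 𝟙_ (Over (Spec (CommRingCat.of k))) ⟶ X) : pt x ∈ orb a x := by
  refine ⟨pt 1, ?_⟩
  rw [← pt_comp, pt_orbitMap, one_lift]

theorem orb_subset_of_pt_mem (x z : 𝟙_ (Over (Spec (CommRingCat.of k))) ⟶ X)
    (hz : pt z ∈ orb a x) : orb a z ⊆ orb a x := by
  obtain ⟨g, hg⟩ := exists_comp_eq_of_pt_mem_range (a.orbitMap x) z hz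
  have h : a.orbitMap z = (𝟙 G * (toUnit G ≫ g)) ≫ a.orbitMap x := by
    rw [pt_orbitMap] at hg
    rw [comp_orbitMap, mul_lift, ← hg, AlgGrp.Action.orbitMap, comp_lift_assoc]
  rintro _ ⟨w, rfl⟩
  rw [h, Over.comp_left, Scheme.Hom.comp_apply]
  exact ⟨_, rfl⟩

theorem orb_eq_of_pt_mem (x z : 𝟙_ (Over (Spec (CommRingCat.of k))) ⟶ X)
    (hz : pt z ∈ orb a x) : orb a z = orb a x := by
  apply (orb_subset_of_pt_mem a x z hz).antisymm
  apply orb_subset_of_pt_mem
  obtain ⟨g, hg⟩ := exists_comp_eq_of_pt_mem_range (a.orbitMap x) z hz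
  rw [pt_orbitMap] at hg
  refine ⟨pt g⁻¹, ?_⟩
  rw [← pt_comp, pt_orbitMap, ← hg, inv_lift]

/-- A rational point in the closure of an orbit has its orbit in that closure. -/
theorem orb_subset_closure (x z : 𝟙_ (Over (Spec (CommRingCat.of k))) ⟶ X)
    (hz : pt z ∈ closure (orb a x)) : closure (orb a z) ⊆ closure (orb a x) := by
  refine closure_minimal ?_ isClosed_closure
  obtain ⟨U, hU, hU'⟩ := isLocallyClosed_orb a z
  refine subset_of_forall_pt (U := orb a z) ?_ isClosed_closure fun w hw => ?_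
  · rw [hU']
    exact hU.isLocallyClosed.inter isClosed_closure.isLocallyClosed
  · obtain ⟨g, rfl⟩ := exists_comp_eq_of_pt_mem_range (a.orbitMap z) w hw
    rw [pt_orbitMap, ← pt_tr, pt_comp]
    exact tr_mem_closure a g x hz

/-- Every point lies on an orbit when there are finitely many orbits. -/
theorem exists_mem_orb (hfin : Set.Finite {S : Set X.left |
      ∃ x : 𝟙_ (Over (Spec (CommRingCat.of k))) ⟶ X, S = orb a x}) (c : X.left) :
    ∃ x : 𝟙_ (Over (Spec (CommRingCat.of k))) ⟶ X, c ∈ orb a x := by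
  have hF : closure {c} ⊆ ⋃ S ∈ {S : Set X.left |
      ∃ x : 𝟙_ (Over (Spec (CommRingCat.of k))) ⟶ X, S = orb a x}, closure (S ∩ closure {c}) := by
    refine subset_of_forall_pt isClosed_closure.isLocallyClosed
      (hfin.isClosed_biUnion fun _ _ => isClosed_closure) fun x hx => ?_
    exact Set.mem_biUnion (⟨x, rfl⟩ : _ ∈ {S : Set X.left |
      ∃ x : 𝟙_ (Over (Spec (CommRingCat.of k))) ⟶ X, S = orb a x})
      (subset_closure ⟨pt_mem_orb a x, hx⟩)
  have hc := hF (subset_closure rfl)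
  rw [Set.mem_iUnion₂] at hc
  obtain ⟨_, ⟨x, rfl⟩, hx⟩ := hc
  refine ⟨x, ?_⟩
  obtain ⟨U, hU, hU'⟩ := isLocallyClosed_orb a x
  rw [hU']
  have h1 : c ∈ closure (orb a x) := closure_mono Set.inter_subset_left hx
  refine ⟨?_, h1⟩
  have h2 : (orb a x ∩ closure {c}).Nonempty := closure_nonempty_iff.1 ⟨c, hx⟩
  obtain ⟨w, hw1, hw2⟩ := h2
  rw [hU'] at hw1
  exact (specializes_iff_mem_closure.2 hw2).mem_open hU hw1.1

/-- The orbit of a point in the closure of another orbit. -/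
theorem closure_subset_of_mem (x x' : 𝟙_ (Over (Spec (CommRingCat.of k))) ⟶ X) {c : X.left}
    (hc : c ∈ orb a x') (hc' : c ∈ closure (orb a x)) :
    closure (orb a x') ⊆ closure (orb a x) := by
  obtain ⟨U, hU, hU'⟩ := isLocallyClosed_orb a x'
  obtain ⟨z, hz1, hz2⟩ := exists_pt_mem (X := X) (U := orb a x' ∩ closure (orb a x)) ⟨c, hc, hc'⟩
    (by
      rw [hU']
      exact (hU.isLocallyClosed.inter isClosed_closure.isLocallyClosed).inter
        isClosed_closure.isLocallyClosed)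
  rw [← orb_eq_of_pt_mem a x' z hz1]
  exact orb_subset_closure a x z hz2

/-- `V` is a set of good translations for the orbit `S`. -/
def Good (Y₁ Y₂ : Set X.left) (S : Set X.left) (V : G.left.Opens) : Prop :=
  ∀ σ : 𝟙_ (Over (Spec (CommRingCat.of k))) ⟶ G, pt σ ∈ V → ∀ y ∈ S,
    Gen (((tr a σ).left '' Y₁ ∩ Y₂) ∩ closure S) y →
      ∃ y₁ y₂, Gen (Y₁ ∩ closure S) y₁ ∧ Gen (Y₂ ∩ closure S) y₂ ∧
        ∀ d : ℕ, topologicalKrullDim (closure S) = d →
          rtd X.hom y₁ + rtd X.hom y₂ = rtd X.hom y + d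

theorem exists_good (x : 𝟙_ (Over (Spec (CommRingCat.of k))) ⟶ X) {Y₁ Y₂ : Set X.left}
    (h₁ : IsClosed Y₁) (h₂ : IsClosed Y₂) :
    ∃ V : G.left.Opens, (V : Set G.left).Nonempty ∧ Good a Y₁ Y₂ (orb a x) V := by
  obtain ⟨V, hV, hV'⟩ := exists_open a x h₁ h₂
  refine ⟨V, hV, fun σ hσ y hy hg => ?_⟩
  obtain ⟨y₁, y₂, h3, h4, h5⟩ := hV' σ hσ _ (tr_mem_orb a σ⁻¹ x hy) (gen_translate a σ x hg)
  refine ⟨y₁, y₂, h3, h4, fun d hd => ?_⟩
  rw [closure_orb, Groth.Agent.Sga2lef.H134.DimCl.dim_eq_iff X.hom] at hd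
  rw [h5, rtd_tr, hd]

theorem exists_good_of_finite (hfin : Set.Finite {S : Set X.left |
      ∃ x : 𝟙_ (Over (Spec (CommRingCat.of k))) ⟶ X, S = orb a x}) {Y₁ Y₂ : Set X.left}
    (h₁ : IsClosed Y₁) (h₂ : IsClosed Y₂) :
    ∃ V : G.left.Opens, (V : Set G.left).Nonempty ∧
      ∀ x : 𝟙_ (Over (Spec (CommRingCat.of k))) ⟶ X, Good a Y₁ Y₂ (orb a x) V := by
  choose! W hW hW' using fun (S : Set X.left) (hS : S ∈ {S : Set X.left |
      ∃ x : 𝟙_ (Over (Spec (CommRingCat.of k))) ⟶ X, S = orb a x}) =>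
    (show ∃ V : G.left.Opens, (V : Set G.left).Nonempty ∧ Good a Y₁ Y₂ S V by
      obtain ⟨x, rfl⟩ := hS
      exact exists_good a x h₁ h₂)
  refine ⟨⟨⋂ S ∈ {S : Set X.left |
      ∃ x : 𝟙_ (Over (Spec (CommRingCat.of k))) ⟶ X, S = orb a x}, (W S : Set G.left),
      hfin.isOpen_biInter fun S _ => (W S).2⟩, ⟨genericPoint G.left, ?_⟩, fun x σ hσ => ?_⟩
  · refine Set.mem_biInter fun S hS => ?_
    exact ((genericPoint_spec G.left).mem_open_set_iff (W S).2).2 (by simpa using hW S hS)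
  · exact hW' (orb a x) ⟨x, rfl⟩ σ (Set.mem_iInter₂.1 hσ (orb a x) ⟨x, rfl⟩)

end fin

end K499.Kleiman
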