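import Groth.Agent.AGF.K499.Kleiman2
import Groth.Agent.CycA.SerreGeom

/-!
# Generic translates, III: closed subsets meeting the orbit closures properly
-/

set_option autoImplicit false
set_option linter.unusedSectionVars false
universe u

namespace K499.Kleiman

open CategoryTheory CategoryTheory.Limits MonoidalCategory CartesianMonoidalCategory MonObj GrpObj
  AlgebraicGeometry TopologicalSpace Topology
open Groth.Agent.CycB.RelDim
open Groth.Agent.Books.AlgPts
open K499.FlatGen K499.DimGen K499.ActPts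
open Groth.Agent.Sga2lef.H134.DimCl (dim_eq_iff exists_dim)

/-- The maximal points of an irreducible closed subset. -/
theorem closure_of_gen {T : Type*} [TopologicalSpace T] [QuasiSober T] {Y : Set T}
    (hc : IsClosed Y) (hi : IsIrreducible Y) {y : T} (hy : Gen Y y) : closure {y} = Y := by
  obtain ⟨w, hw⟩ := QuasiSober.sober hi hc
  have h1 : w ⤳ y := hw.specializes hy.1
  rw [← hy.2 w hw.mem h1]
  exact hw.def

variable {k : Type u} [Field k] [IsAlgClosed k] {G X : Over (Spec (CommRingCat.of k))} [GrpObj G]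
  (a : AlgGrp.Action G X)

section lower

/-- Lower bound for the dimension of an intersection in a smooth scheme. -/
theorem rtd_add_le [IsIntegral X.left] [Smooth X.hom] [IsSeparated X.hom] {x x' y' : X.left}
    (hx : x' ⤳ x) (hy : y' ⤳ x) (hm : ∀ z, x' ⤳ z → y' ⤳ z → z ⤳ x → z = x) (n m m' l : ℕ)
    (hn : rtd X.hom (genericPoint X.left) = n) (h1 : rtd X.hom x' = m) (h2 : rtd X.hom y' = m')
    (h3 : rtd X.hom x = l) : m + m' ≤ n + l := by
  obtain ⟨δ, hδ⟩ := Groth.Agent.CycA.SerreGeom.exists_deltaCompat X.hom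
  have key := (Groth.Agent.CycA.SerreGeom.mult_main X.hom hδ hx hy hm).1
  rw [deltaCompat_iff] at hδ
  have hd : ∀ (z : X.left) (j : ℕ), rtd X.hom z = j → δ z = j := by
    intro z j hj
    obtain ⟨i, hi, hi'⟩ := hδ z
    rw [hj] at hi
    have : j = i := by exact_mod_cast hi
    rw [hi', this, zero_add]
  rw [hd _ _ hn, hd _ _ h1, hd _ _ h2, hd _ _ h3] at key
  exact_mod_cast key

end lower

section fin

variable [IsIntegral G.left] [IsSeparated G.hom] [LocallyOfFiniteType G.hom] [QuasiCompact G.hom]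
  [IsIntegral X.left] [IsSeparated X.hom] [LocallyOfFiniteType X.hom] [QuasiCompact X.hom]

/-- `Z` meets the orbit closures properly. -/
def Proper (n r : ℕ) (Z : Set X.left) : Prop :=
  ∀ (x : 𝟙_ (Over (Spec (CommRingCat.of k))) ⟶ X) (d : ℕ),
    topologicalKrullDim (closure (orb a x)) = d →
    ∀ C ∈ irreducibleComponents ↥(Z ∩ closure (orb a x)),
      n ≤ r + d ∧ topologicalKrullDim C = ((r + d - n : ℕ) : WithBot ℕ∞)

theorem rtd_of_proper {n r : ℕ} {Z : Set X.left} (hZ : IsClosed Z) (h : Proper a n r Z)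
    (x : 𝟙_ (Over (Spec (CommRingCat.of k))) ⟶ X) (d : ℕ)
    (hd : topologicalKrullDim (closure (orb a x)) = d) {z : X.left}
    (hz : Gen (Z ∩ closure (orb a x)) z) :
    n ≤ r + d ∧ rtd X.hom z = ((r + d - n : ℕ) : Cardinal.{u}) := by
  obtain ⟨C, hC, hC'⟩ := exists_mem_of_gen (hZ.inter isClosed_closure) hz
  obtain ⟨h1, h2⟩ := h x d hd C hC
  exact ⟨h1, by rw [← dim_eq_iff X.hom, ← hC', h2]⟩

theorem exists_dim_orb (x : 𝟙_ (Over (Spec (CommRingCat.of k))) ⟶ X) :
    ∃ d : ℕ, topologicalKrullDim (closure (orb a x)) = d ∧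
      rtd X.hom ((a.orbitMap x).left (genericPoint G.left)) = d := by
  obtain ⟨d, h1, h2⟩ := exists_dim X.hom ((a.orbitMap x).left (genericPoint G.left))
  exact ⟨d, by rw [closure_orb, h2], h1⟩

theorem isClosed_translate (σ : 𝟙_ (Over (Spec (CommRingCat.of k))) ⟶ G) {Z : Set X.left}
    (hZ : IsClosed Z) : IsClosed ((tr a σ).left '' Z) :=
  (homeo a σ).isClosedMap Z hZ

/-- The dimension of the maximal points of `σ Y₁ ∩ Y₂ ∩ closure O` lying in the orbit `O`. -/
theorem rtd_of_good {n r s : ℕ} {Y₁ Y₂ : Set X.left} (h₁ : IsClosed Y₁) (h₂ : IsClosed Y₂)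
    (hp₁ : Proper a n r Y₁) (hp₂ : Proper a n s Y₂) {V : G.left.Opens}
    (x : 𝟙_ (Over (Spec (CommRingCat.of k))) ⟶ X) (hV : Good a Y₁ Y₂ (orb a x) V) (d : ℕ)
    (hd : topologicalKrullDim (closure (orb a x)) = d)
    (σ : 𝟙_ (Over (Spec (CommRingCat.of k))) ⟶ G) (hσ : pt σ ∈ V) {c : X.left}
    (hc : c ∈ orb a x) (hg : Gen (((tr a σ).left '' Y₁ ∩ Y₂) ∩ closure (orb a x)) c) (m : ℕ)
    (hm : rtd X.hom c = m) : m + 2 * n = r + s + d := by
  obtain ⟨y₁, y₂, h3, h4, h5⟩ := hV σ hσ c hc hg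
  have h6 := h5 d hd
  obtain ⟨h7, h8⟩ := rtd_of_proper a h₁ hp₁ x d hd h3
  obtain ⟨h9, h10⟩ := rtd_of_proper a h₂ hp₂ x d hd h4
  rw [h8, h10, hm] at h6
  have h11 : (r + d - n) + (s + d - n) = m + d := by exact_mod_cast h6
  omega

theorem exists_orb_dense (hfin : Set.Finite {S : Set X.left |
      ∃ x : 𝟙_ (Over (Spec (CommRingCat.of k))) ⟶ X, S = orb a x}) :
    ∃ x : 𝟙_ (Over (Spec (CommRingCat.of k))) ⟶ X, closure (orb a x) = Set.univ ∧
      IsOpen (orb a x) := by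
  obtain ⟨x, hx⟩ := exists_mem_orb a hfin (genericPoint X.left)
  have h1 : closure (orb a x) = Set.univ := by
    apply Set.eq_univ_of_univ_subset
    rw [← genericPoint_closure]
    exact closure_mono (Set.singleton_subset_iff.2 hx)
  obtain ⟨U, hU, hU'⟩ := isLocallyClosed_orb a x
  refine ⟨x, h1, ?_⟩
  rw [hU', h1, Set.inter_univ]
  exact hU

/-- The translate of a closed subset meeting the orbit closures properly. -/
theorem rtd_of_proper_translate (σ : 𝟙_ (Over (Spec (CommRingCat.of k))) ⟶ G) {n r : ℕ}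
    {Z : Set X.left} (hZ : IsClosed Z) (h : Proper a n r Z)
    (x : 𝟙_ (Over (Spec (CommRingCat.of k))) ⟶ X) (d : ℕ)
    (hd : topologicalKrullDim (closure (orb a x)) = d) {z : X.left}
    (hz : Gen ((tr a σ).left '' Z ∩ closure (orb a x)) z) :
    n ≤ r + d ∧ rtd X.hom z = ((r + d - n : ℕ) : Cardinal.{u}) := by
  have h1 : Gen ((Z ∩ (tr a σ).left ⁻¹' Set.univ) ∩ closure (orb a x)) ((tr a σ⁻¹).left z) :=
    gen_translate a σ x (by rwa [Set.inter_univ])
  rw [Set.preimage_univ, Set.inter_univ] at h1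
  have h2 := rtd_of_proper a hZ h x d hd h1
  rwa [rtd_tr] at h2

theorem eq_of_good [Smooth X.hom] (hfin : Set.Finite {S : Set X.left |
      ∃ x : 𝟙_ (Over (Spec (CommRingCat.of k))) ⟶ X, S = orb a x}) {n r s : ℕ}
    {Y₁ Y₂ : Set X.left} (h₁ : IsClosed Y₁) (h₂ : IsClosed Y₂) (h₂i : IsIrreducible Y₂)
    (hn : topologicalKrullDim X.left = n) (hs : topologicalKrullDim Y₂ = s)
    (hp₁ : Proper a n r Y₁) (hp₂ : Proper a n s Y₂) {V : G.left.Opens}
    (hV : ∀ x : 𝟙_ (Over (Spec (CommRingCat.of k))) ⟶ X, Good a Y₁ Y₂ (orb a x) V)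
    (x : 𝟙_ (Over (Spec (CommRingCat.of k))) ⟶ X) (d : ℕ)
    (hd : topologicalKrullDim (closure (orb a x)) = d)
    (σ : 𝟙_ (Over (Spec (CommRingCat.of k))) ⟶ G) (hσ : pt σ ∈ V) {c : X.left}
    (hg : Gen (((tr a σ).left '' Y₁ ∩ Y₂) ∩ closure (orb a x)) c) (m : ℕ)
    (hm : rtd X.hom c = m) : m + 2 * n = r + s + d := by
  obtain ⟨x', hx'⟩ := exists_mem_orb a hfin c
  have hsub := closure_subset_of_mem a x x' hx' hg.1.2
  obtain ⟨d', hd', hd''⟩ := exists_dim_orb a x'
  have h1 := rtd_of_good a h₁ h₂ hp₁ hp₂ x' (hV x') d' hd' σ hσ hx'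
    ⟨⟨hg.1.1, subset_closure hx'⟩, fun z hz hzc => hg.2 z ⟨hz.1, hsub hz.2⟩ hzc⟩ m hm
  obtain ⟨α, hα, hαc⟩ := exists_gen ((isClosed_translate a σ h₁).inter isClosed_closure)
    (show c ∈ (tr a σ).left '' Y₁ ∩ closure (orb a x) from ⟨hg.1.1.1, hg.1.2⟩)
  obtain ⟨β, hβ, hβc⟩ := exists_gen h₂ hg.1.1.2
  obtain ⟨h3, h4⟩ := rtd_of_proper_translate a σ h₁ hp₁ x d hd hα
  have h5 : rtd X.hom β = s := by
    rw [← dim_eq_iff X.hom, closure_of_gen h₂ h₂i hβ]
    exact hs
  have h6 : rtd X.hom (genericPoint X.left) = n := by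
    rw [← dim_eq_iff X.hom, genericPoint_closure, ← hn]
    exact IsHomeomorph.topologicalKrullDim_eq _ (Homeomorph.Set.univ X.left).isHomeomorph
  have hZα : closure {α} ⊆ (tr a σ).left '' Y₁ ∩ closure (orb a x) :=
    closure_minimal (Set.singleton_subset_iff.2 hα.1)
      ((isClosed_translate a σ h₁).inter isClosed_closure)
  have hZβ : closure {β} ⊆ Y₂ := closure_minimal (Set.singleton_subset_iff.2 hβ.1) h₂
  have h7 := rtd_add_le hαc hβc (fun z hz1 hz2 hz3 => by
    have h8 := hZα (specializes_iff_mem_closure.1 hz1)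
    exact hg.2 z ⟨⟨h8.1, hZβ (specializes_iff_mem_closure.1 hz2)⟩, h8.2⟩ hz3)
    n _ _ m h6 h4 h5 hm
  have h9 : d' ≤ d := by
    have hle : topologicalKrullDim (closure (orb a x')) ≤
        topologicalKrullDim (closure (orb a x)) :=
      Topology.IsInducing.topologicalKrullDim_le
        (f := Set.inclusion hsub) (IsEmbedding.inclusion hsub).isInducing
    rw [hd, hd'] at hle
    exact_mod_cast hle
  omega

end fin

end K499.Kleiman
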