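import Groth.Agent.AGF.K798.LinRedConv
import Groth.Agent.AGF.K798.LinRed
import Groth.Agent.Sga3B.RG.UnipRep

/-!
# Complements of translation-stable spaces of functions on linearly reductive groups
-/

set_option autoImplicit false

universe u

open WithConv TensorProduct Coalgebra

namespace K499.LeftCompl

open Groth.Agent.Sga3B.RG K798.KerPt K798.LinRedConv HopfRep Groth.Agent.Books.ComodHom
open Groth.Agent.Books.ComodBasic

variable {K : Type u} [Field K] {A : Type u} [CommRing A] [HopfAlgebra K A]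
  [IsAlgClosed K] [Algebra.FiniteType K A] [IsReduced A]

lemma pa_regular (g : Pt K A) (a : A) : pa A g a = rTr g a := by
  apply eq_of_forall_pt (K := K)
  intro x
  rw [rTr_apply_pt]
  have h1 := K798.LinRed.dmul_apply (A := A) x.ofConv.toLinearMap g.ofConv.toLinearMap a
  rw [dmul_pt] at h1
  exact h1.symm

/-- Complements of subspaces stable under right translations. -/
theorem exists_compl_right (h : IsLinearlyReductive K A) {W V : Submodule K A}
    [FiniteDimensional K W] (hW : ∀ g : Pt K A, ∀ w ∈ W, rTr g w ∈ W)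
    (hV : ∀ g : Pt K A, ∀ v ∈ V, rTr g v ∈ V) (hle : V ≤ W) :
    ∃ C ≤ W, (∀ g : Pt K A, ∀ c ∈ C, rTr g c ∈ C) ∧ V ⊓ C = ⊥ ∧ V ⊔ C = W := by
  have hWs : IsSubcomod (k := K) (A := A) W :=
    isSubcomod_of_stable fun g w hw => by rw [pa_regular]; exact hW g w hw
  let inst := subComod W hWs
  have hpa : ∀ (g : Pt K A) (w : W), ((pa W g w : W) : A) = rTr g (w : A) := by
    intro g w
    have h2 := (isComodHom_subtype W hWs).map_dact g.ofConv.toLinearMap w
    rw [← pa_regular]
    exact h2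
  have hV' : IsSubcomod (k := K) (A := A) (V.comap W.subtype) := by
    refine isSubcomod_of_stable fun g w hw => ?_
    rw [Submodule.mem_comap, Submodule.subtype_apply, hpa]
    exact hV g _ hw
  obtain ⟨C', hC', hc⟩ := h W inferInstance (V.comap W.subtype) hV'
  refine ⟨C'.map W.subtype, ?_, ?_, ?_, ?_⟩
  · rintro _ ⟨w, -, rfl⟩
    exact w.2
  · rintro g _ ⟨w, hw, rfl⟩
    refine ⟨pa W g w, ?_, hpa g w⟩
    exact (isSubcomod_iff_dact _).1 hC' _ w hw
  · rw [eq_bot_iff]
    rintro _ ⟨h1, w, hw, rfl⟩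
    have h2 : w ∈ V.comap W.subtype ⊓ C' := ⟨h1, hw⟩
    rw [hc.inf_eq_bot, Submodule.mem_bot] at h2
    rw [h2, map_zero]
    exact Submodule.zero_mem _
  · apply le_antisymm
    · refine sup_le hle ?_
      rintro _ ⟨w, -, rfl⟩
      exact w.2
    · intro w hw
      have h1 : (⟨w, hw⟩ : W) ∈ V.comap W.subtype ⊔ C' := by rw [hc.sup_eq_top]; trivial
      obtain ⟨y, hy, z, hz, hyz⟩ := Submodule.mem_sup.1 h1
      exact Submodule.mem_sup.2 ⟨y, hy, z, ⟨z, hz, rfl⟩, congrArg Subtype.val hyz⟩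

lemma antipode_antipode (a : A) :
    HopfAlgebra.antipode K (HopfAlgebra.antipode K a) = a := by
  apply eq_of_forall_pt (K := K)
  intro x
  rw [← Pt.inv_apply, ← Pt.inv_apply, inv_inv]

lemma antipode_rTr (g : Pt K A) (a : A) :
    HopfAlgebra.antipode K (rTr g (HopfAlgebra.antipode K a)) = lTr g a := by
  apply eq_of_forall_pt (K := K)
  intro x
  rw [← Pt.inv_apply, rTr_apply_pt, ← Pt.inv_apply, lTr_apply_pt, mul_inv_rev, inv_inv]

lemma antipode_lTr (g : Pt K A) (a : A) :
    HopfAlgebra.antipode K (lTr g (HopfAlgebra.antipode K a)) = rTr g a := by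
  apply eq_of_forall_pt (K := K)
  intro x
  rw [← Pt.inv_apply, lTr_apply_pt, ← Pt.inv_apply, rTr_apply_pt, mul_inv_rev, inv_inv, inv_inv]

/-- Complements of subspaces stable under left translations. -/
theorem exists_compl_left (h : IsLinearlyReductive K A) {W V : Submodule K A}
    [FiniteDimensional K W] (hW : ∀ g : Pt K A, ∀ w ∈ W, lTr g w ∈ W)
    (hV : ∀ g : Pt K A, ∀ v ∈ V, lTr g v ∈ V) (hle : V ≤ W) :
    ∃ C ≤ W, (∀ g : Pt K A, ∀ c ∈ C, lTr g c ∈ C) ∧ V ⊓ C = ⊥ ∧ V ⊔ C = W := by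
  let S : A →ₗ[K] A := HopfAlgebra.antipode K
  have hSS : ∀ a, S (S a) = a := antipode_antipode
  have hmem : ∀ (U : Submodule K A) (a : A), a ∈ U.map S ↔ S a ∈ U := by
    intro U a
    constructor
    · rintro ⟨b, hb, rfl⟩
      rwa [hSS]
    · intro ha
      exact ⟨S a, ha, hSS a⟩
  have hst : ∀ (U : Submodule K A), (∀ g : Pt K A, ∀ w ∈ U, lTr g w ∈ U) →
      ∀ g : Pt K A, ∀ w ∈ U.map S, rTr g w ∈ U.map S := by
    intro U hU g w hw
    rw [hmem] at hw ⊢
    have h1 := antipode_rTr g (S w)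
    change S (rTr g (S (S w))) = _ at h1
    rw [hSS] at h1
    rw [h1]
    exact hU g _ hw
  have : FiniteDimensional K (W.map S) := inferInstance
  obtain ⟨C, hC1, hC2, hC3, hC4⟩ := exists_compl_right h (hst W hW) (hst V hV)
    (Submodule.map_mono hle)
  refine ⟨C.map S, ?_, ?_, ?_, ?_⟩
  · intro a ha
    rw [hmem] at ha
    have h1 := hC1 ha
    rwa [hmem, hSS] at h1
  · intro g c hc
    rw [hmem] at hc ⊢
    have h1 := antipode_lTr g (S c)
    change S (lTr g (S (S c))) = _ at h1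
    rw [hSS] at h1
    rw [h1]
    exact hC2 g _ hc
  · rw [eq_bot_iff]
    rintro a ⟨h1, h2⟩
    have h2' : S a ∈ C := (hmem C a).1 h2
    have h3 : S a ∈ V.map S ⊓ C := ⟨⟨a, h1, rfl⟩, h2'⟩
    rw [hC3, Submodule.mem_bot] at h3
    rw [Submodule.mem_bot, ← hSS a, h3, map_zero]
  · have h1 : (V.map S ⊔ C).map S = (W.map S).map S := by rw [hC4]
    have h2 : ∀ U : Submodule K A, (U.map S).map S = U := by
      intro U
      ext a
      rw [hmem, hmem, hSS]
    rwa [Submodule.map_sup, h2, h2] at h1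

end K499.LeftCompl
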