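import Groth.Agent.Books.AlgPts
import Groth.Agent.S3401
import Groth.Agent.AGF.K499.FinOrb
import Mathlib.AlgebraicGeometry.Morphisms.UniversallyOpen
import Mathlib.AlgebraicGeometry.Morphisms.Proper

/-!
# The Zariski topology on the rational points of a scheme over an algebraically closed field

`Γ` is a type with a map to the rational points `𝟙_ ⟶ X` of `X` over the algebraically closed field
`k`; it gets the topology induced from the underlying space of `X`.
-/

set_option autoImplicit false
universe u v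

open CategoryTheory MonoidalCategory CartesianMonoidalCategory MonObj GrpObj AlgebraicGeometry
  TopologicalSpace Topology Limits

namespace K499.PtTop

open Groth.Agent.Books.AlgPts

variable {k : Type u} [Field k]

/-- The Zariski topology on the rational points. -/
@[reducible] noncomputable def topo (X : Over (Spec (CommRingCat.of k))) :
    TopologicalSpace (𝟙_ (Over (Spec (CommRingCat.of k))) ⟶ X) :=
  TopologicalSpace.induced pt inferInstance

attribute [local instance] topo

variable {X Y : Over (Spec (CommRingCat.of k))}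

lemma isInducing_pt : IsInducing (pt (X := X)) := ⟨rfl⟩

lemma isClosed_iff {C : Set (𝟙_ (Over (Spec (CommRingCat.of k))) ⟶ X)} :
    IsClosed C ↔ ∃ C' : Set X.left, IsClosed C' ∧ pt ⁻¹' C' = C := isClosed_induced_iff

lemma isOpen_iff {C : Set (𝟙_ (Over (Spec (CommRingCat.of k))) ⟶ X)} :
    IsOpen C ↔ ∃ C' : Set X.left, IsOpen C' ∧ pt ⁻¹' C' = C := isOpen_induced_iff

lemma continuous_comp (f : X ⟶ Y) :
    Continuous (fun x : 𝟙_ (Over (Spec (CommRingCat.of k))) ⟶ X => x ≫ f) := by
  rw [isInducing_pt.continuous_iff]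
  have h : (pt ∘ fun x : 𝟙_ (Over (Spec (CommRingCat.of k))) ⟶ X => x ≫ f) =
      f.left ∘ pt := by
    funext x
    exact pt_comp x f
  rw [h]
  exact f.left.continuous.comp isInducing_pt.continuous

variable [IsAlgClosed k] [LocallyOfFiniteType X.hom]

/-- images of locally closed sets, on rational points -/
lemma image_comp [LocallyOfFiniteType Y.hom] (f : X ⟶ Y) {Z : Set X.left} (hZ : IsLocallyClosed Z) :
    (fun x : 𝟙_ (Over (Spec (CommRingCat.of k))) ⟶ X => x ≫ f) '' (pt ⁻¹' Z) =
      pt ⁻¹' (f.left '' Z) := by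
  ext y
  constructor
  · rintro ⟨x, hx, rfl⟩
    exact ⟨pt x, hx, (pt_comp x f).symm⟩
  · rintro ⟨z, hz, hzy⟩
    obtain ⟨x, hx, hx'⟩ := exists_pt_mem (X := X) (U := Z ∩ f.left ⁻¹' {pt y}) ⟨z, hz, hzy⟩
      (hZ.inter ((isClosed_pt y).preimage f.left.continuous).isLocallyClosed)
    refine ⟨x, hx, pt_injective ?_⟩
    rw [pt_comp]
    exact hx'

lemma isClosedMap_comp [LocallyOfFiniteType Y.hom] (f : X ⟶ Y) (hf : IsClosedMap f.left) :
    IsClosedMap (fun x : 𝟙_ (Over (Spec (CommRingCat.of k))) ⟶ X => x ≫ f) := by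
  intro C hC
  obtain ⟨C', hC', rfl⟩ := isClosed_iff.1 hC
  rw [image_comp f hC'.isLocallyClosed]
  exact isClosed_iff.2 ⟨_, hf _ hC', rfl⟩

lemma isOpenMap_comp [LocallyOfFiniteType Y.hom] (f : X ⟶ Y) (hf : IsOpenMap f.left) :
    IsOpenMap (fun x : 𝟙_ (Over (Spec (CommRingCat.of k))) ⟶ X => x ≫ f) := by
  intro C hC
  obtain ⟨C', hC', rfl⟩ := isOpen_iff.1 hC
  rw [image_comp f hC'.isLocallyClosed]
  exact isOpen_iff.2 ⟨_, hf _ hC', rfl⟩

omit [IsAlgClosed k] in
lemma noetherianSpace [QuasiCompact X.hom] :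
    NoetherianSpace (𝟙_ (Over (Spec (CommRingCat.of k))) ⟶ X) := by
  have h1 : IsLocallyNoetherian X.left := LocallyOfFiniteType.isLocallyNoetherian X.hom
  have h2 : CompactSpace X.left := QuasiCompact.compactSpace_of_compactSpace X.hom
  have h3 : IsNoetherian X.left := {}
  exact isInducing_pt.noetherianSpace

lemma isIrreducible_univ [IrreducibleSpace X.left] :
    IsIrreducible (Set.univ : Set (𝟙_ (Over (Spec (CommRingCat.of k))) ⟶ X)) := by
  constructor
  · obtain ⟨x, -⟩ := exists_pt_mem (X := X) (U := Set.univ) Set.univ_nonempty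
      isOpen_univ.isLocallyClosed
    exact ⟨x, trivial⟩
  · rintro u v hu hv ⟨x, -, hx⟩ ⟨y, -, hy⟩
    obtain ⟨u', hu', rfl⟩ := isOpen_iff.1 hu
    obtain ⟨v', hv', rfl⟩ := isOpen_iff.1 hv
    have h1 : (u' ∩ v').Nonempty := nonempty_preirreducible_inter hu' hv' ⟨_, hx⟩ ⟨_, hy⟩
    obtain ⟨z, hz⟩ := exists_pt_mem h1 (hu'.inter hv').isLocallyClosed
    exact ⟨z, trivial, hz⟩

/-- **Chevalley's theorem on rational points.** -/
theorem exists_open_image [LocallyOfFiniteType Y.hom] [QuasiCompact X.hom] [QuasiCompact Y.hom]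
    (f : X ⟶ Y)
    {C : Set (𝟙_ (Over (Spec (CommRingCat.of k))) ⟶ X)} (hC : IsClosed C)
    (hirr : IsIrreducible ((fun x : 𝟙_ (Over (Spec (CommRingCat.of k))) ⟶ X => x ≫ f) '' C)) :
    ∃ O : Set (𝟙_ (Over (Spec (CommRingCat.of k))) ⟶ Y), IsOpen O ∧
      (O ∩ closure ((fun x : 𝟙_ (Over (Spec (CommRingCat.of k))) ⟶ X => x ≫ f) '' C)).Nonempty ∧
      O ∩ closure ((fun x : 𝟙_ (Over (Spec (CommRingCat.of k))) ⟶ X => x ≫ f) '' C) ⊆
        (fun x : 𝟙_ (Over (Spec (CommRingCat.of k))) ⟶ X => x ≫ f) '' C := by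
  obtain ⟨C', hC', rfl⟩ := isClosed_iff.1 hC
  have hXn : IsLocallyNoetherian X.left := LocallyOfFiniteType.isLocallyNoetherian X.hom
  have hXc : CompactSpace X.left := QuasiCompact.compactSpace_of_compactSpace X.hom
  have hXN : IsNoetherian X.left := {}
  have hYn : IsLocallyNoetherian Y.left := LocallyOfFiniteType.isLocallyNoetherian Y.hom
  have hYc : CompactSpace Y.left := QuasiCompact.compactSpace_of_compactSpace Y.hom
  have hYN : IsNoetherian Y.left := {}
  have hw : f.left ≫ Y.hom = X.hom := Over.w f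
  have hft : LocallyOfFiniteType f.left := by
    have : LocallyOfFiniteType (f.left ≫ Y.hom) := by rw [hw]; infer_instance
    exact locallyOfFiniteType_of_comp f.left Y.hom
  have hfp : LocallyOfFinitePresentation f.left := inferInstance
  have hqc : QuasiCompact f.left := inferInstance
  have hcon : IsConstructible (f.left '' C') := by
    apply f.left.isConstructible_image
    rw [← isConstructible_compl]
    exact Groth.Agent.S3401.isConstructible_of_isOpen_of_noetherianSpace hC'.isOpen_compl
  set T := f.left '' C' with hT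
  have him := image_comp f hC'.isLocallyClosed
  rw [← hT] at him
  set I := (fun x : 𝟙_ (Over (Spec (CommRingCat.of k))) ⟶ X => x ≫ f) '' (pt ⁻¹' C') with hI
  -- the closure of the image
  have hirr2 : IsIrreducible (pt '' I) := hirr.image pt isInducing_pt.continuous.continuousOn
  obtain ⟨y, hy⟩ := QuasiSober.sober hirr2.closure isClosed_closure
  have hy' : closure {y} = closure (pt '' I) := hy
  have hTcl : T ⊆ closure {y} := by
    rw [hy']
    have h1 : C' ⊆ f.left ⁻¹' closure (pt '' I) := by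
      refine subset_of_forall_pt hC'.isLocallyClosed (isClosed_closure.preimage f.left.continuous)
        fun x hx => ?_
      apply subset_closure
      exact ⟨x ≫ f, ⟨x, hx, rfl⟩, pt_comp x f⟩
    rintro _ ⟨z, hz, rfl⟩
    exact h1 hz
  obtain ⟨V, hV, hyV, hVT⟩ := Groth.Agent.S3401.exists_open_iff_of_isConstructible hcon y
  have hyT : y ∈ T := by
    have h1 : y ∈ closure (pt '' I) := by rw [← hy']; exact subset_closure rfl
    obtain ⟨z, hzV, x, hx, rfl⟩ := mem_closure_iff.1 h1 V hV hyV
    have h2 : pt x ∈ T := by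
      have : x ∈ pt ⁻¹' T := by rw [← him]; exact hx
      exact this
    exact (hVT _ hzV (specializes_iff_mem_closure.2 (hTcl h2))).1 h2
  refine ⟨pt ⁻¹' V, isOpen_iff.2 ⟨V, hV, rfl⟩, ?_, ?_⟩
  · have h1 : y ∈ closure (pt '' I) := by rw [← hy']; exact subset_closure rfl
    obtain ⟨z, hzV, x, hx, rfl⟩ := mem_closure_iff.1 h1 V hV hyV
    exact ⟨x, hzV, subset_closure hx⟩
  · rintro z ⟨hzV, hzI⟩
    rw [him]
    have h1 : pt z ∈ closure {y} := by
      have h2 : closure I ⊆ pt ⁻¹' closure {y} := by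
        apply closure_minimal _ (isClosed_closure.preimage isInducing_pt.continuous)
        intro x hx
        have : x ∈ pt ⁻¹' T := by rw [← him]; exact hx
        exact hTcl this
      exact h2 hzI
    exact (hVT _ hzV (specializes_iff_mem_closure.2 h1)).2 hyT

end K499.PtTop
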