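import Groth.Prelude.Def_RedSub
import Groth.Agent.AGF.K499.ActPts
import Groth.Agent.Books.BorelOrb2
import Mathlib.AlgebraicGeometry.Morphisms.FlatDescent

/-!
# Local sections of `G ⟶ G/P`, and equivariant morphisms to `G/P`
-/

set_option autoImplicit false
set_option linter.unusedSectionVars false
universe u

namespace K499.QuotSec

open CategoryTheory CategoryTheory.Limits MonoidalCategory CartesianMonoidalCategory MonObj GrpObj
  AlgebraicGeometry TopologicalSpace Topology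
open Groth.Agent.Books.AlgPts
open K499.ActPts

section quot

variable {S : Scheme.{u}} {G P Q U : Over S} [GrpObj G] [GrpObj P]

/-- If `U × P ⟶ G` is an open immersion then so is `U ⟶ G/P`. -/
theorem isOpenImmersion_comp (iP : P ⟶ G) (q : G ⟶ Q) (hq : RedSub.IsQuotient iP q) (u : U ⟶ G)
    (h : IsOpenImmersion ((u ⊗ₘ iP) ≫ μ[G]).left) : IsOpenImmersion (u ≫ q).left := by
  have h1 : IsPullback (fst U P) (u ▷ P) u (fst G P) := by
    refine IsPullback.of_isLimit (c := PullbackCone.mk (fst U P) (u ▷ P) (by simp)) ?_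
    refine PullbackCone.IsLimit.mk _ (fun s => lift s.fst (s.snd ≫ snd G P)) (fun s => by simp)
      (fun s => ?_) (fun s m h1 h2 => ?_)
    · have h := s.condition
      apply CartesianMonoidalCategory.hom_ext
      · simpa using h
      · simp
    · apply CartesianMonoidalCategory.hom_ext
      · simpa using h1
      · rw [lift_snd, ← h2]
        simp
  have h2 := h1.flip.paste_horiz hq.2.2.2.flip
  have h3 := h2.map (Over.forget S)
  have h4 : (u ▷ P) ≫ (G ◁ iP) ≫ μ[G] = (u ⊗ₘ iP) ≫ μ[G] := by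
    rw [← Category.assoc, ← MonoidalCategory.tensorHom_def]
  refine MorphismProperty.of_isPullback_of_descendsAlong (P := @IsOpenImmersion)
    (Q := @Surjective ⊓ @Flat ⊓ @LocallyOfFinitePresentation) h3
    ⟨⟨hq.1, hq.2.1⟩, hq.2.2.1⟩ ?_
  rw [h4]
  exact h

end quot

section act

variable {S : Scheme.{u}} {G P Q Y : Over S} [GrpObj G] [GrpObj P]

/-- Equivariance of the quotient map on points. -/
theorem act_q (q : G ⟶ Q) (aQ : AlgGrp.Action G Q) (haQ : (G ◁ q) ≫ aQ.act = μ[G] ≫ q)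
    {T : Over S} (g h : T ⟶ G) : lift g (h ≫ q) ≫ aQ.act = (g * h) ≫ q := by
  have h1 := congr(lift g h ≫ $haQ)
  rw [Hom.mul_def]
  simpa using h1

/-- Equivariance of a morphism on points. -/
theorem act_f (aQ : AlgGrp.Action G Q) (aY : AlgGrp.Action G Y) (f : Y ⟶ Q)
    (hf : (G ◁ f) ≫ aQ.act = aY.act ≫ f) {T : Over S} (g : T ⟶ G) (y : T ⟶ Y) :
    lift g (y ≫ f) ≫ aQ.act = (lift g y ≫ aY.act) ≫ f := by
  have h1 := congr(lift g y ≫ $hf)
  simpa using h1

end act

section field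

variable {k : Type u} [Field k] [IsAlgClosed k]
  {G Q U : Over (Spec (CommRingCat.of k))} [GrpObj G]

/-- A local section of `q` at one place gives local sections everywhere. -/
theorem exists_local_section [LocallyOfFiniteType G.hom] (q : G ⟶ Q)
    (hsurj : Surjective q.left) (aQ : AlgGrp.Action G Q)
    (haQ : (G ◁ q) ≫ aQ.act = μ[G] ≫ q) (u : U ⟶ G) (hu : IsOpenImmersion (u ≫ q).left)
    (hU : Nonempty U.left) (y : Q.left) :
    ∃ W : Q.left.Opens, y ∈ W ∧ ∃ s : Over.mk (W.ι ≫ Q.hom) ⟶ G,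
      s ≫ q = Over.homMk W.ι := by
  obtain ⟨x, rfl⟩ := q.left.surjective y
  let U₀ : Q.left.Opens := (u ≫ q).left.opensRange
  obtain ⟨g, hg⟩ := Groth.Agent.Books.BorelOrb2.exists_translate (G := G) (q.left ⁻¹ᵁ U₀)
    ⟨u.left hU.some, by
      change q.left (u.left hU.some) ∈ U₀
      rw [← Scheme.Hom.comp_apply, ← Over.comp_left]
      exact ⟨_, rfl⟩⟩ x
  have hl : Groth.Agent.Books.BorelOrb.ltr g ≫ q = q ≫ tr aQ g := by
    rw [Groth.Agent.Books.BorelOrb.ltr, Groth.Agent.Books.BorelOrb.tr,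
      Groth.Agent.Books.BorelOrb.sm_leftAct, comp_tr, ← act_q q aQ haQ, Category.id_comp]
  let W : Q.left.Opens := (tr aQ g).left ⁻¹ᵁ U₀
  refine ⟨W, ?_, ?_⟩
  · change (tr aQ g).left (q.left x) ∈ U₀
    rw [← Scheme.Hom.comp_apply, ← Over.comp_left, ← hl]
    exact hg
  let j : Over.mk (W.ι ≫ Q.hom) ⟶ Q := Over.homMk W.ι
  have hr : Set.range (j ≫ tr aQ g).left ⊆ Set.range (u ≫ q).left := by
    rintro _ ⟨z, rfl⟩
    have hz : W.ι z ∈ W := by rw [← SetLike.mem_coe, ← W.range_ι]; exact ⟨z, rfl⟩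
    exact hz
  let w : Over.mk (W.ι ≫ Q.hom) ⟶ U :=
    Over.homMk (IsOpenImmersion.lift (u ≫ q).left (j ≫ tr aQ g).left hr) (by
      rw [← Over.w (u ≫ q), IsOpenImmersion.lift_fac_assoc, Over.w])
  have hw : w ≫ u ≫ q = j ≫ tr aQ g := by
    ext1
    exact IsOpenImmersion.lift_fac _ _ _
  refine ⟨(toUnit _ ≫ g⁻¹) * (w ≫ u), ?_⟩
  rw [← act_q q aQ haQ, Category.assoc, hw, comp_tr, GrpObj.comp_inv, inv_lift]

end field

section local_triv

variable {S : Scheme.{u}} {G P Q Y : Over S} [GrpObj G]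

/-- Over a local section of `q`, an equivariant morphism to `G/P` is a product. -/
theorem exists_iso (q : G ⟶ Q) (aQ : AlgGrp.Action G Q) (haQ : (G ◁ q) ≫ aQ.act = μ[G] ≫ q)
    (aY : AlgGrp.Action G Y) (f : Y ⟶ Q) (hf : (G ◁ f) ≫ aQ.act = aY.act ≫ f)
    {V U F : Over S} (v : V ⟶ Y) (fU : V ⟶ U) (j : U ⟶ Q) (hV : IsPullback v fU f j)
    (i : F ⟶ Y) (hF : IsPullback i (toUnit F) f (η[G] ≫ q)) (s : U ⟶ G) (hs : s ≫ q = j) :
    ∃ φ : V ≅ U ⊗ F, φ.hom ≫ fst U F = fU := by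
  have h1 : ∀ {T : Over S} (t : T ⟶ U), t ≫ j = lift (t ≫ s) (toUnit T ≫ η[G] ≫ q) ≫ aQ.act := by
    intro T t
    have : toUnit T ≫ η[G] ≫ q = (1 : T ⟶ G) ≫ q := by rw [Hom.one_def, Category.assoc]
    rw [this, act_q q aQ haQ, _root_.mul_one, Category.assoc, hs]
  -- forward
  have h2 : (lift (fU ≫ s)⁻¹ v ≫ aY.act) ≫ f = toUnit V ≫ η[G] ≫ q := by
    rw [← act_f aQ aY f hf, hV.w, h1, inv_lift]
  let b : V ⟶ F := hF.lift (lift (fU ≫ s)⁻¹ v ≫ aY.act) (toUnit V) h2
  have hb : b ≫ i = lift (fU ≫ s)⁻¹ v ≫ aY.act := hF.lift_fst _ _ _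
  -- backward
  have h3 : (lift (fst U F ≫ s) (snd U F ≫ i) ≫ aY.act) ≫ f = fst U F ≫ j := by
    rw [← act_f aQ aY f hf, h1, Category.assoc, hF.w, ← Category.assoc]
    congr 3
    exact toUnit_unique _ _
  let c : U ⊗ F ⟶ V := hV.lift (lift (fst U F ≫ s) (snd U F ≫ i) ≫ aY.act) (fst U F) h3
  have hc1 : c ≫ v = lift (fst U F ≫ s) (snd U F ≫ i) ≫ aY.act := hV.lift_fst _ _ _
  have hc2 : c ≫ fU = fst U F := hV.lift_snd _ _ _
  refine ⟨⟨lift fU b, c, ?_, ?_⟩, lift_fst _ _⟩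
  · apply hV.hom_ext
    · rw [Category.assoc, hc1, Category.id_comp, comp_lift_assoc, lift_fst_assoc, lift_snd_assoc,
        hb, lift_inv]
    · rw [Category.assoc, hc2, lift_fst, Category.id_comp]
  · apply CartesianMonoidalCategory.hom_ext
    · rw [Category.assoc, lift_fst, hc2, Category.id_comp]
    · rw [Category.assoc, lift_snd, Category.id_comp]
      apply hF.hom_ext
      · rw [Category.assoc, hb, comp_lift_assoc, hc1, GrpObj.comp_inv, ← Category.assoc c fU,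
          hc2, inv_lift]
      · exact toUnit_unique _ _

end local_triv

end K499.QuotSec
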