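import Groth.Agent.AGF.K499.QuotSec

/-!
# Equivariant morphisms to `G/P`: the scheme-theoretic form
-/

set_option autoImplicit false
set_option linter.unusedSectionVars false
universe u

namespace K499.QuotSec

open CategoryTheory CategoryTheory.Limits MonoidalCategory CartesianMonoidalCategory MonObj GrpObj
  AlgebraicGeometry TopologicalSpace Topology
open K499.ActPts

variable {S : Scheme.{u}} {G Q Y : Over S} [GrpObj G]

theorem exists_iso_opens (q : G ⟶ Q) (aQ : AlgGrp.Action G Q)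
    (haQ : (G ◁ q) ≫ aQ.act = μ[G] ≫ q)
    (aY : AlgGrp.Action G Y) (f : Y ⟶ Q) (hf : (G ◁ f) ≫ aQ.act = aY.act ≫ f)
    (U : Q.left.Opens) (s : Over.mk (U.ι ≫ Q.hom) ⟶ G) (hs : s ≫ q = Over.homMk U.ι) :
    ∃ φ : (↑(f.left ⁻¹ᵁ U) : Scheme.{u}) ≅
          pullback (U.ι ≫ Q.hom) (pullback.snd f.left (η[G] ≫ q).left ≫ (𝟙_ (Over S)).hom),
        φ.hom ≫ pullback.fst (U.ι ≫ Q.hom)
          (pullback.snd f.left (η[G] ≫ q).left ≫ (𝟙_ (Over S)).hom) ≫ U.ι =
          (f.left ⁻¹ᵁ U).ι ≫ f.left := by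
  let V : Over S := Over.mk ((f.left ⁻¹ᵁ U).ι ≫ Y.hom)
  let U' : Over S := Over.mk (U.ι ≫ Q.hom)
  let F : Over S := Over.mk (pullback.snd f.left (η[G] ≫ q).left ≫ (𝟙_ (Over S)).hom)
  let j : U' ⟶ Q := Over.homMk U.ι
  let v : V ⟶ Y := Over.homMk (f.left ⁻¹ᵁ U).ι
  let fU : V ⟶ U' := Over.homMk (f.left ∣_ U) (by
    change (f.left ∣_ U) ≫ U.ι ≫ Q.hom = (f.left ⁻¹ᵁ U).ι ≫ Y.hom
    rw [morphismRestrict_ι_assoc, Over.w])
  let i : F ⟶ Y := Over.homMk (pullback.fst f.left (η[G] ≫ q).left) (by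
    change pullback.fst f.left (η[G] ≫ q).left ≫ Y.hom =
      pullback.snd f.left (η[G] ≫ q).left ≫ (𝟙_ (Over S)).hom
    rw [← Over.w (η[G] ≫ q), ← Over.w f, pullback.condition_assoc])
  have hV : IsPullback v fU f j := by
    refine IsPullback.of_map (Over.forget S) ?_ ?_
    · ext1
      exact (isPullback_morphismRestrict f.left U).flip.w
    · exact (isPullback_morphismRestrict f.left U).flip
  have hF : IsPullback i (toUnit F) f (η[G] ≫ q) := by
    have ht : toUnit F = Over.homMk (pullback.snd f.left (η[G] ≫ q).left) rfl :=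
      toUnit_unique _ _
    rw [ht]
    refine IsPullback.of_map (Over.forget S) ?_ ?_
    · ext1
      exact pullback.condition
    · exact IsPullback.of_hasPullback f.left (η[G] ≫ q).left
  obtain ⟨φ, hφ⟩ := exists_iso q aQ haQ aY f hf v fU j hV i hF s hs
  refine ⟨(Over.forget S).mapIso φ, ?_⟩
  have h1 := congrArg (fun t => t.left ≫ U.ι) hφ
  have h2 : fU.left ≫ U.ι = (f.left ⁻¹ᵁ U).ι ≫ f.left := morphismRestrict_ι _ _
  refine Eq.trans ?_ (h1.trans h2)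
  exact (Category.assoc _ _ _).symm

theorem flat_of_iso {k : Type u} [Field k] {X Z F : Scheme.{u}} (f : X ⟶ Z)
    (h : Z ⟶ Spec (CommRingCat.of k)) (g : F ⟶ Spec (CommRingCat.of k))
    (H : ∀ z : Z, ∃ U : Z.Opens, z ∈ U ∧ ∃ φ : (↑(f ⁻¹ᵁ U) : Scheme.{u}) ≅ pullback (U.ι ≫ h) g,
      φ.hom ≫ pullback.fst (U.ι ≫ h) g ≫ U.ι = (f ⁻¹ᵁ U).ι ≫ f) : Flat f := by
  have hg : Flat g := by
    infer_instance
  refine IsZariskiLocalAtTarget.of_forall_exists_morphismRestrict fun z => ?_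
  obtain ⟨U, hz, φ, hφ⟩ := H z
  refine ⟨U, hz, ?_⟩
  have : f ∣_ U = φ.hom ≫ pullback.fst (U.ι ≫ h) g := by
    rw [← cancel_mono U.ι, morphismRestrict_ι, Category.assoc, hφ]
  rw [this]
  infer_instance

end K499.QuotSec
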