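import Groth.Agent.AGF.K499.WtPt
import Groth.Agent.Sga3B.RG.ConjTori
import Groth.Agent.Sga3B.RG.Rel885
import Groth.Agent.Sga3B.RG.DynRel

/-!
# Borel subgroups are `T B_u`, on points
-/

set_option autoImplicit false

universe u

open WithConv TensorProduct Coalgebra

namespace K499.WtPt

open Groth.Agent.Sga3B.RG Groth.Agent.Sga3B.Parab.BorelPts172
open Groth.Agent.Sga3B.RG.Trig Groth.Agent.Sga3B.RG.TrigTorus

variable {K : Type u} [Field K] {A : Type u} [CommRing A] [HopfAlgebra K A]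
  [IsAlgClosed K] [Algebra.FiniteType K A]

/-- **A Borel subgroup is the product of a maximal torus and its unipotent elements.** -/
theorem dec_of_isBorelPt [IsDomain A] {B T : Subgroup (Pt K A)} (hB : IsBorelPt B)
    (hT : IsMaxTorusSub T) (hTB : T ≤ B) : Dec B T := by
  have hCl := hB.isCl
  have hdom : IsDomain (A ⧸ vanIdeal (B : Set (Pt K A))) := isDomain_quot_of_isConn hB.isConn
  let φ : A →ₐc[K] A ⧸ vanIdeal (B : Set (Pt K A)) := Bialgebra.Quotient.mkBialgHom (R := K) _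
  have hφ : Function.Surjective φ := Ideal.Quotient.mk_surjective
  have hrange : (Pt.map φ).range = B := range_quotMap_vanIdeal B hCl
  have hTr : T ≤ (Pt.map φ).range := hTB.trans hrange.ge
  have hmap : (T.comap (Pt.map φ)).map (Pt.map φ) = T := map_comap_of_le hTr
  have hT' : IsMaxTorusSub (T.comap (Pt.map φ)) := by
    rw [isMaxTorusSub_map_iff hφ, hmap]
    exact ⟨hT.1, fun T' hT' _ hle => hT.2 T' hT' hle⟩
  have htrig : IsTrig K (A ⧸ vanIdeal (B : Set (Pt K A))) :=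
    K496.GrossPt.isTrig_of_isCCS hB.toIsCCS
  obtain ⟨T₀, hT₀, -, hdec⟩ := exists_torus htrig
  obtain ⟨g, hg⟩ := ConjTori.exists_conj_of_isMaxTorusSub hT₀ hT'
  intro b hb
  obtain ⟨x, rfl⟩ := hrange.ge hb
  obtain ⟨s, hs, u, hu, hx⟩ := hdec (g⁻¹ * x * g)
  refine ⟨Pt.map φ (g * s * g⁻¹), ?_, Pt.map φ (g * u * g⁻¹), ?_, ?_, ?_⟩
  · have h1 : g * s * g⁻¹ ∈ T.comap (Pt.map φ) := by
      rw [← hg]
      exact ⟨s, hs, rfl⟩
    exact h1
  · exact hrange.le ⟨_, rfl⟩
  · rw [isUnip_map_iff hφ]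
    exact ((isUnip_iff htrig u).2 hu).conj g
  · rw [← map_mul]
    congr 1
    have h2 : x = g * (g⁻¹ * x * g) * g⁻¹ := by group
    rw [h2, hx]
    group

end K499.WtPt
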