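import Groth.Agent.AGF.K499.LeftCompl
import Groth.Agent.AGF.K496.GrossPt

/-!
# Weight spaces of functions on a reductive group, on points

`Wt B T χ`: the functions `f` with `f (x u) = f x` for `u` unipotent in `B` and
`f (x t) = f x * χ t` for `t` in `T`.
-/

set_option autoImplicit false

universe u

open WithConv TensorProduct Coalgebra

namespace K499.WtPt

open Groth.Agent.Sga3B.RG Groth.Agent.Sga3B.Parab.BorelPts172

section basic

variable {K : Type u} [Field K] {A : Type u} [CommRing A] [HopfAlgebra K A]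

/-- The weight space. -/
def Wt (B T : Subgroup (Pt K A)) (χ : Pt K A → K) : Submodule K A where
  carrier := {f | (∀ x : Pt K A, ∀ u ∈ B, IsUnip u → (x * u) f = x f) ∧
    ∀ x : Pt K A, ∀ t ∈ T, (x * t) f = x f * χ t}
  add_mem' := by
    rintro a b ⟨ha, ha'⟩ ⟨hb, hb'⟩
    refine ⟨fun x u hu hu' => ?_, fun x t ht => ?_⟩
    · rw [Pt.apply_add, Pt.apply_add, ha x u hu hu', hb x u hu hu']
    · rw [Pt.apply_add, Pt.apply_add, ha' x t ht, hb' x t ht, add_mul]
  zero_mem' := by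
    refine ⟨fun x u _ _ => ?_, fun x t _ => ?_⟩
    · rw [Pt.apply_zero, Pt.apply_zero]
    · rw [Pt.apply_zero, Pt.apply_zero, zero_mul]
  smul_mem' := by
    rintro c a ⟨ha, ha'⟩
    refine ⟨fun x u hu hu' => ?_, fun x t ht => ?_⟩
    · rw [Pt.apply_smul, Pt.apply_smul, ha x u hu hu']
    · rw [Pt.apply_smul, Pt.apply_smul, ha' x t ht, mul_assoc]

variable {B T : Subgroup (Pt K A)} {χ χ' : Pt K A → K}

lemma mem_Wt {f : A} : f ∈ Wt B T χ ↔ (∀ x : Pt K A, ∀ u ∈ B, IsUnip u → (x * u) f = x f) ∧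
    ∀ x : Pt K A, ∀ t ∈ T, (x * t) f = x f * χ t := Iff.rfl

lemma lTr_mem_Wt {f : A} (hf : f ∈ Wt B T χ) (g : Pt K A) : lTr g f ∈ Wt B T χ := by
  refine ⟨fun x u hu hu' => ?_, fun x t ht => ?_⟩
  · rw [lTr_apply_pt, lTr_apply_pt, ← mul_assoc, hf.1 _ u hu hu']
  · rw [lTr_apply_pt, lTr_apply_pt, ← mul_assoc, hf.2 _ t ht]

lemma mul_mem_Wt {f f' : A} (hf : f ∈ Wt B T χ) (hf' : f' ∈ Wt B T χ') :
    f * f' ∈ Wt B T (χ * χ') := by
  refine ⟨fun x u hu hu' => ?_, fun x t ht => ?_⟩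
  · rw [Pt.apply_mul, Pt.apply_mul, hf.1 x u hu hu', hf'.1 x u hu hu']
  · rw [Pt.apply_mul, Pt.apply_mul, hf.2 x t ht, hf'.2 x t ht, Pi.mul_apply]
    ring

/-- `B = T B_u`. -/
def Dec (B T : Subgroup (Pt K A)) : Prop :=
  ∀ b ∈ B, ∃ t ∈ T, ∃ u ∈ B, IsUnip u ∧ b = t * u

lemma apply_cell {f : A} (hf : f ∈ Wt B T χ) {N : Subgroup (Pt K A)}
    (hN : ∀ u ∈ N, ∀ x : Pt K A, (u * x) f = x f) {n b : Pt K A} (hn : n ∈ N) {t u : Pt K A}
    (ht : t ∈ T) (hu : u ∈ B) (hu' : IsUnip u) (hb : b = t * u) :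
    (n * b) f = (1 : Pt K A) f * χ t := by
  rw [hN n hn, hb, hf.1 t u hu hu']
  have h := hf.2 1 t ht
  rwa [one_mul] at h

variable [IsAlgClosed K] [Algebra.FiniteType K A] [IsDomain A]

/-- Two functions in the weight space invariant under left translations by `N` agree when they
agree at `1`. -/
theorem eq_of_one_eq (hdec : Dec B T) {N : Subgroup (Pt K A)} {p : A} (hp : p ≠ 0)
    (hcell : ∀ x : Pt K A, x p ≠ 0 → ∃ u ∈ N, ∃ b ∈ B, x = u * b)
    {f f' : A} (hf : f ∈ Wt B T χ) (hf' : f' ∈ Wt B T χ)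
    (hfN : ∀ u ∈ N, ∀ x : Pt K A, (u * x) f = x f)
    (hfN' : ∀ u ∈ N, ∀ x : Pt K A, (u * x) f' = x f')
    (h1 : (1 : Pt K A) f = (1 : Pt K A) f') : f = f' := by
  have h2 : (f - f') * p = 0 := by
    refine eq_zero_of_forall_pt (K := K) fun x => ?_
    rw [Pt.apply_mul]
    by_cases hx : x p = 0
    · rw [hx, mul_zero]
    · obtain ⟨n, hn, b, hb, rfl⟩ := hcell x hx
      obtain ⟨t, ht, u, hu, hu', hbt⟩ := hdec b hb
      rw [Pt.apply_sub, apply_cell hf hfN hn ht hu hu' hbt,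
        apply_cell hf' hfN' hn ht hu hu' hbt, h1, sub_self, zero_mul]
  rcases mul_eq_zero.1 h2 with h3 | h3
  · exact sub_eq_zero.1 h3
  · exact absurd h3 hp

/-- Stable finite-dimensional spaces inside a weight space. -/
theorem exists_stable_Wt {f f' : A} (hf : f ∈ Wt B T χ) (hf' : f' ∈ Wt B T χ) :
    ∃ W : Submodule K A, FiniteDimensional K W ∧ f ∈ W ∧ f' ∈ W ∧ W ≤ Wt B T χ ∧
      ∀ g : Pt K A, ∀ w ∈ W, lTr g w ∈ W := by
  have hfd : FiniteDimensional K (Submodule.span K {f, f'}) :=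
    FiniteDimensional.span_of_finite K (Set.toFinite _)
  obtain ⟨U, hUfd, hfU, -, hUl⟩ := exists_stable (K := K) (A := A) (Submodule.span K {f, f'})
  refine ⟨U ⊓ Wt B T χ, Submodule.finiteDimensional_inf_left _ _,
    ⟨hfU (Submodule.subset_span (by simp)), hf⟩, ⟨hfU (Submodule.subset_span (by simp)), hf'⟩,
    inf_le_right, fun g w hw => ?_⟩
  exact ⟨hUl g hw.1, lTr_mem_Wt hw.2 g⟩

/-- Nonzero stable finite-dimensional spaces of functions contain nonzero functions invariant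
under a unipotent group. -/
theorem exists_inv {N : Subgroup (Pt K A)} (hN : ∀ u ∈ N, IsUnip u) {W : Submodule K A}
    [FiniteDimensional K W] (hW : ∀ g : Pt K A, ∀ w ∈ W, lTr g w ∈ W) (hW0 : W ≠ ⊥) :
    ∃ v ∈ W, v ≠ 0 ∧ ∀ u ∈ N, ∀ x : Pt K A, (u * x) v = x v := by
  have hst : IsStable (lTrRep K A) W := fun g w hw => hW g w hw
  obtain ⟨w, hw, hw0⟩ := Submodule.exists_mem_ne_zero_of_ne_bot hW0
  obtain ⟨v, -, hv0, hv⟩ := exists_fixed_of_isUnip
    (ρ := CentralPt.subRep (lTrRep K A) W hst) (CentralPt.isAlg_subRep (isAlg_lTrRep K A) W hst) hN ⊤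
    (fun _ _ _ _ => trivial) (fun h => hw0 (by
      have h1 : (⟨w, hw⟩ : W) ∈ (⊤ : Submodule K W) := trivial
      rw [h, Submodule.mem_bot] at h1
      exact congrArg Subtype.val h1))
  refine ⟨v, v.2, fun h => hv0 (Subtype.ext h), ?_⟩
  intro u hu x
  have h1 : lTr u⁻¹ (v : A) = v := congrArg Subtype.val (hv u⁻¹ (N.inv_mem hu))
  have h2 := lTr_apply_pt u⁻¹ x (v : A)
  rw [inv_inv, h1] at h2
  exact h2.symm

/-- **Weight spaces of linearly reductive groups are irreducible**: a nonzero subspace stable under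
left translations is everything. -/
theorem eq_of_stable (hlr : HopfRep.IsLinearlyReductive K A) (hB : IsBorelPt B) (hdec : Dec B T)
    {P : Submodule K A} (hP : P ≤ Wt B T χ) (hP0 : P ≠ ⊥)
    (hst : ∀ g : Pt K A, ∀ w ∈ P, lTr g w ∈ P) : P = Wt B T χ := by
  refine le_antisymm hP fun f hf => ?_
  obtain ⟨N, p, hN, hp, hcell⟩ := K496.GrossPt.exists_opp hB
  obtain ⟨f₀, hf₀, hf₀0⟩ := Submodule.exists_mem_ne_zero_of_ne_bot hP0
  obtain ⟨W, hWfd, hfW, hf₀W, hWle, hWst⟩ := exists_stable_Wt hf (hP hf₀)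
  obtain ⟨C, hC1, hC2, hC3, hC4⟩ := LeftCompl.exists_compl_left hlr (V := P ⊓ W) hWst
    (fun g v hv => ⟨hst g v hv.1, hWst g v hv.2⟩) inf_le_right
  have hC0 : C = ⊥ := by
    by_contra hC
    have : FiniteDimensional K C := Submodule.finiteDimensional_of_le hC1
    have : FiniteDimensional K (P ⊓ W : Submodule K A) := Submodule.finiteDimensional_inf_right _ _
    obtain ⟨c, hc, hc0, hcN⟩ := exists_inv hN hC2 hC
    obtain ⟨v, hv, hv0, hvN⟩ := exists_inv hN (W := P ⊓ W)
      (fun g v hv => ⟨hst g v hv.1, hWst g v hv.2⟩)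
      (fun h => hf₀0 (by
        have h1 : f₀ ∈ P ⊓ W := ⟨hf₀, hf₀W⟩
        rwa [h, Submodule.mem_bot] at h1))
    have hcW : c ∈ Wt B T χ := hWle (hC1 hc)
    have hvW : v ∈ Wt B T χ := hP hv.1
    have hv1 : (1 : Pt K A) v ≠ 0 := by
      intro h0
      apply hv0
      refine eq_of_one_eq hdec hp hcell hvW (Submodule.zero_mem _) hvN
        (fun _ _ _ => by rw [Pt.apply_zero, Pt.apply_zero]) ?_
      rw [h0, Pt.apply_zero]
    have hcv : c = ((1 : Pt K A) c * ((1 : Pt K A) v)⁻¹) • v := by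
      refine eq_of_one_eq hdec hp hcell hcW (Submodule.smul_mem _ _ hvW) hcN ?_ ?_
      · intro u hu x
        rw [Pt.apply_smul, Pt.apply_smul, hvN u hu]
      · rw [Pt.apply_smul, mul_assoc, inv_mul_cancel₀ hv1, mul_one]
    have h1 : c ∈ P ⊓ W ⊓ C := by
      refine ⟨?_, hc⟩
      rw [hcv]
      exact Submodule.smul_mem _ _ hv
    rw [hC3, Submodule.mem_bot] at h1
    exact hc0 h1
  rw [hC0, sup_bot_eq] at hC4
  rw [← hC4] at hfW
  exact hfW.1

/-- **Products of weight spaces** span the weight space of the product character. -/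
theorem mem_span_mul (hlr : HopfRep.IsLinearlyReductive K A) (hB : IsBorelPt B) (hdec : Dec B T)
    (h : Wt B T χ ≠ ⊥) (h' : Wt B T χ' ≠ ⊥) {f : A} (hf : f ∈ Wt B T (χ * χ')) :
    f ∈ Submodule.span K {z | ∃ a ∈ Wt B T χ, ∃ b ∈ Wt B T χ', z = a * b} := by
  have key : Submodule.span K {z | ∃ a ∈ Wt B T χ, ∃ b ∈ Wt B T χ', z = a * b} =
      Wt B T (χ * χ') := by
    refine eq_of_stable hlr hB hdec ?_ ?_ ?_
    · rw [Submodule.span_le]
      rintro _ ⟨a, ha, b, hb, rfl⟩
      exact mul_mem_Wt ha hb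
    · obtain ⟨a, ha, ha0⟩ := Submodule.exists_mem_ne_zero_of_ne_bot h
      obtain ⟨b, hb, hb0⟩ := Submodule.exists_mem_ne_zero_of_ne_bot h'
      intro h0
      have h1 : a * b ∈ Submodule.span K
          {z | ∃ a ∈ Wt B T χ, ∃ b ∈ Wt B T χ', z = a * b} :=
        Submodule.subset_span ⟨a, ha, b, hb, rfl⟩
      rw [h0, Submodule.mem_bot] at h1
      exact (mul_ne_zero ha0 hb0) h1
    · intro g w hw
      induction hw using Submodule.span_induction with
      | mem z hz =>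
        obtain ⟨a, ha, b, hb, rfl⟩ := hz
        rw [map_mul]
        exact Submodule.subset_span ⟨_, lTr_mem_Wt ha g, _, lTr_mem_Wt hb g, rfl⟩
      | zero => rw [map_zero]; exact Submodule.zero_mem _
      | add x y _ _ hx hy => rw [map_add]; exact Submodule.add_mem _ hx hy
      | smul c x _ hx => rw [map_smul]; exact Submodule.smul_mem _ _ hx
  rw [key]
  exact hf

end basic

/-- Sums of products, without repetition. -/
theorem exists_sum {K : Type u} [Field K] {A : Type u} [CommRing A] [Algebra K A]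
    (E E' : Submodule K A) {f : A}
    (hf : f ∈ Submodule.span K {z | ∃ a ∈ E, ∃ b ∈ E', z = a * b}) :
    ∃ (t : Finset A) (α : A → A), (∀ b ∈ t, b ∈ E') ∧ (∀ b, α b ∈ E) ∧ (∀ b ∉ t, α b = 0) ∧
      f = ∑ b ∈ t, α b * b := by
  classical
  induction hf using Submodule.span_induction with
  | mem z hz =>
    obtain ⟨a, ha, b, hb, rfl⟩ := hz
    refine ⟨{b}, fun x => if x = b then a else 0, ?_, ?_, ?_, ?_⟩
    · intro x hx
      rw [Finset.mem_singleton] at hx
      rwa [hx]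
    · intro x
      dsimp only
      split_ifs
      · exact ha
      · exact Submodule.zero_mem _
    · intro x hx
      rw [Finset.mem_singleton] at hx
      simp only [if_neg hx]
    · rw [Finset.sum_singleton]
      dsimp only
      rw [if_pos rfl]
  | zero => exact ⟨∅, fun _ => 0, by simp, fun _ => Submodule.zero_mem _, fun _ _ => rfl, by simp⟩
  | add x y _ _ hx hy =>
    obtain ⟨t, α, h1, h2, h3, h4⟩ := hx
    obtain ⟨t', α', h1', h2', h3', h4'⟩ := hy
    refine ⟨t ∪ t', fun b => α b + α' b, ?_, fun b => Submodule.add_mem _ (h2 b) (h2' b), ?_, ?_⟩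
    · intro b hb
      rcases Finset.mem_union.1 hb with hb | hb
      · exact h1 b hb
      · exact h1' b hb
    · intro b hb
      rw [Finset.mem_union, not_or] at hb
      dsimp only
      rw [h3 b hb.1, h3' b hb.2, add_zero]
    · simp only [add_mul, Finset.sum_add_distrib]
      rw [h4, h4']
      congr 1
      · refine Finset.sum_subset Finset.subset_union_left fun b _ hb => ?_
        rw [h3 b hb, zero_mul]
      · refine Finset.sum_subset Finset.subset_union_right fun b _ hb => ?_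
        rw [h3' b hb, zero_mul]
  | smul c x _ hx =>
    obtain ⟨t, α, h1, h2, h3, h4⟩ := hx
    refine ⟨t, fun b => c • α b, h1, fun b => Submodule.smul_mem _ _ (h2 b), fun b hb => ?_, ?_⟩
    · dsimp only
      rw [h3 b hb, smul_zero]
    · rw [h4, Finset.smul_sum]
      refine Finset.sum_congr rfl fun b _ => ?_
      rw [smul_mul_assoc]

end K499.WtPt
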