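import Groth.Agent.AGF.K499.WtDec
import Groth.Agent.AGF.K496.URDict
import Groth.Agent.Sga3B.TorClosed636
import Groth.Agent.Sga3B.RG.BrHc

/-!
# Weight spaces of global functions on a reductive group scheme, in terms of points
-/

set_option autoImplicit false

universe u

open CategoryTheory MonoidalCategory CartesianMonoidalCategory MonObj GrpObj AlgebraicGeometry

namespace K499.WtSch

open Groth.Agent.Books.AffBridge Groth.Agent.Books.AffBridge2
open Groth.Agent.Sga3B.RG Groth.Agent.Sga3B.RG.BrPts K495.ObsPt K495.Bridge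
open Groth.Agent.Sga3B.Parab.BorelPts172 K499.WtPt

variable {k : Type u} [Field k] [IsAlgClosed k]

/-- Semi-invariance under right translation can be tested on rational points. -/
theorem semi_iff {G T : Over (Spec (CommRingCat.of k))} [GrpObj G] [IsAffine G.left]
    [IsAffine T.left] [Smooth G.hom] [Smooth T.hom] (g : T ⟶ G) (f : Γ(G.left, ⊤))
    (w : Γ(T.left, ⊤)) :
    ((G ◁ g) ≫ μ[G]).left.appTop f = (fst G T).left.appTop f * (snd G T).left.appTop w ↔
      ∀ (x : VecGrp.pt k k ⟶ G) (t : VecGrp.pt k k ⟶ T),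
      ev (x * (t ≫ g)) f = ev x f * ev t w := by
  have hred : AlgebraicGeometry.IsReduced (G ⊗ T).left :=
    Groth.Agent.Books.AlgPtsSmooth.isReduced_of_smooth (G ⊗ T)
  have evmul : ∀ {X : Over (Spec (CommRingCat.of k))} (z : VecGrp.pt k k ⟶ X) (a b : Γ(X.left, ⊤)),
      ev z (a * b) = ev z a * ev z b := by
    intro X z a b
    rw [ev, ev, ev, map_mul, map_mul]
  constructor
  · intro h x t
    have h1 : x * (t ≫ g) = lift x t ≫ (G ◁ g) ≫ μ[G] := by
      rw [← Category.assoc, lift_whiskerLeft]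
      rfl
    have h2 : ev x f = ev (lift x t) ((fst G T).left.appTop f) := by rw [← ev_comp, lift_fst]
    have h3 : ev t w = ev (lift x t) ((snd G T).left.appTop w) := by rw [← ev_comp, lift_snd]
    rw [h1, ev_comp, h, evmul, h2, h3]
  · intro h
    apply section_ext
    intro z
    rw [← ev_comp, evmul, ← ev_comp, ← ev_comp]
    have h1 := h (z ≫ fst G T) (z ≫ snd G T)
    have h2 : (z ≫ fst G T) * ((z ≫ snd G T) ≫ g) = z ≫ (G ◁ g) ≫ μ[G] := by
      have h3 : z = lift (z ≫ fst G T) (z ≫ snd G T) := by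
        rw [← comp_lift, lift_fst_snd, Category.comp_id]
      conv_rhs => rw [h3, ← Category.assoc, lift_whiskerLeft]
      rfl
    rw [h2] at h1
    exact h1

section dict

variable {A : Type u} [CommRing A] [HopfAlgebra k A]
  {G : Over (Spec (CommRingCat.of k))} [GrpObj G] (e : G ≅ SpecOver k A) [IsMonHom e.hom]
  {T : Over (Spec (CommRingCat.of k))} (g : T ⟶ G)

open Classical in
/-- The function on points attached to a global function on a subscheme. -/
noncomputable def chiPt (w : Γ(T.left, ⊤)) (p : Pt k A) : k :=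
  if h : ∃ t : VecGrp.pt k k ⟶ T, ptE e k (t ≫ g) = p then ev h.choose w else 1

omit [IsAlgClosed k] in
lemma chiPt_apply [Mono g] (w : Γ(T.left, ⊤)) (t : VecGrp.pt k k ⟶ T) :
    chiPt e g w (ptE e k (t ≫ g)) = ev t w := by
  have h : ∃ t' : VecGrp.pt k k ⟶ T, ptE e k (t' ≫ g) = ptE e k (t ≫ g) := ⟨t, rfl⟩
  rw [chiPt, dif_pos h]
  congr 1
  rw [← cancel_mono g]
  exact (ptE e k).injective h.choose_spec

omit [IsAlgClosed k] in
lemma chiPt_mul (w w' : Γ(T.left, ⊤)) : chiPt e g (w * w') = chiPt e g w * chiPt e g w' := by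
  funext p
  rw [Pi.mul_apply, chiPt, chiPt, chiPt]
  split_ifs with h
  · rw [ev, ev, ev, map_mul, map_mul]
  · rw [_root_.mul_one]

variable [Algebra.FiniteType k A] [IsAffine G.left] [Smooth G.hom]
  {Bo : Over (Spec (CommRingCat.of k))} [GrpObj Bo] {iB : Bo ⟶ G} (hB : Red.IsBorelOver k iB)
  {U : Over (Spec (CommRingCat.of k))} [GrpObj U] {u : U ⟶ Bo} (hU : Par.IsUnipotentRadical u)

include hB hU in
/-- **Weight spaces in terms of points.** -/
theorem mem_Wt_iff [GrpObj T] [IsAffine T.left] [Smooth T.hom] [IsMonHom g] [Mono g]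
    [IsMonHom iB] (f : Γ(G.left, ⊤)) (w : Γ(T.left, ⊤)) :
    (((G ◁ (u ≫ iB)) ≫ μ[G]).left.appTop f = (fst G U).left.appTop f ∧
      ((G ◁ g) ≫ μ[G]).left.appTop f = (fst G T).left.appTop f * (snd G T).left.appTop w) ↔
    fn e f ∈ Wt (psub e iB) (psub e g) (chiPt e g w) := by
  have hu := hU.1
  have hUs := hU.2.2.2.1
  have hUc := hU.2.1
  have hBc := hB.2.1
  have hBa : IsAffine Bo.left := isAffine_of_isAffineHom iB.left
  have hUa : IsAffine U.left := isAffine_of_isAffineHom u.left
  have hUm := K496.URDict.mem_psub_iff e hB hU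
  rw [mem_Wt]
  refine and_congr ?_ ?_
  · have h1 := isRTransInv_iff_mem e (u ≫ iB) f
    refine Iff.trans h1 ?_
    rw [mem_rInv]
    constructor
    · intro h x v hv hv'
      exact h x v ((hUm v).2 ⟨hv, hv'⟩)
    · intro h x v hv
      obtain ⟨h2, h3⟩ := (hUm v).1 hv
      exact h x v h2 h3
  · rw [semi_iff]
    constructor
    · rintro h x _ ⟨t, rfl⟩
      have h2 := h ((ptE e k).symm x) t
      rw [ev_fn e, ev_fn e, map_mul, MulEquiv.apply_symm_apply] at h2
      rw [chiPt_apply]
      exact h2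
    · intro h x t
      rw [ev_fn e, ev_fn e, map_mul]
      have h2 := h (ptE e k x) (ptE e k (t ≫ g)) ⟨t, rfl⟩
      rw [chiPt_apply] at h2
      exact h2

end dict

end K499.WtSch
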